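import Cfsg.Agent.LV.A.Num
import Cfsg.Agent.H794.XZ.X0

/-!
# LV-A (helper35): degrees in the principal block of a tower of realizations of the standard model

* `deg_val` : the valuation of the degree of a labelled character, `n < e r`;
* `tow_main` : if `Q` has the same order `e` modulo `p` and `r`, `n < e p` and `n < e r`, then the members of the
  principal `p`-block have degree prime to `r`.
-/

set_option autoImplicit false
set_option linter.unusedSectionVars false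

open Cfsg

namespace Cfsg.Agent.LV.A

open Cfsg.Agent.H577.GLB.Std Cfsg.Agent.H614 Cfsg.Agent.H614.GLn.RSt
open Cfsg.Agent.H614.GLn hiding bsz
open Cfsg.Agent.H794.XZ Cfsg.Agent.H794.EM
open Cfsg.Agent.Characters Cfsg.Agent.Blocks.Basic Cfsg.Agent.Blocks.Local
open Cfsg.Agent.H623.GU Cfsg.Agent.H112.GLB Cfsg.Agent.H615.GU

universe u

section lab

variable {Q : ℤ} {M : ℕ} [NeZero M] {m : ℕ}

theorem two_pow {Q : ℤ} (h : 2 ≤ |Q|) {k : ℕ} (hk : 0 < k) : 2 ≤ |Q ^ k| := by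
  rw [abs_pow]
  exact h.trans (le_self_pow₀ (by linarith) hk.ne')

/-- the degree functional at a Schur function -/
theorem eps_SS (hQ : IsUnit (Q : ZMod M)) (h2 : 2 ≤ |Q|) (c : ZMod M) {β : Fin m → ℕ} (hβ : StrictMono β) :
    ∃ (u : ℤˣ) (A : ℕ), eps Q M (SS (fun j => Pw Q M j c) (bsz β) β) *
      ((PB (Q ^ perZ Q M c) β * (Q ^ perZ Q M c) ^ A : ℤ) : ℂ) = (((u : ℤ) * VD (Q ^ perZ Q M c) β : ℤ) : ℂ) := by
  have ht : ∀ i, 0 < i → (Q : ℂ) ^ i ≠ 1 := fun i hi h => pow_ne_one h2 hi (by exact_mod_cast h)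
  have hT : ∀ i, 0 < i → ((Q ^ perZ Q M c : ℤ) : ℂ) ^ i ≠ 1 := fun i hi h =>
    pow_ne_one (two_pow h2 (perZ_pos hQ c)) hi (by exact_mod_cast h)
  obtain ⟨u, A, h⟩ := JT_val (s := (-1) ^ (perZ Q M c - 1)) hT β
  refine ⟨u, A, ?_⟩
  rw [← h, SS_eq_JT _ _ (sum_eq_bsz hβ), JT, map_sum]
  congr 1
  refine Finset.sum_congr rfl fun σ _ => ?_
  rw [map_zsmul, zsmul_eq_mul, map_prod]
  congr 1
  refine Finset.prod_congr rfl fun i _ => ?_
  rw [jt]
  split_ifs with h1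
  · rw [eps_hh Q M hQ ht]
    push_cast
    rfl
  · exact map_zero _

/-- the order of `Q ^ per` -/
noncomputable def dd (Q : ℤ) (M r : ℕ) (c : ZMod M) : ℕ := orderOf (((Q ^ perZ Q M c : ℤ)) : ZMod r)

/-- the total weight -/
noncomputable def WW (Q : ℤ) (M r : ℕ) [NeZero M] (t : ZMod M → Fin m → ℕ) : ℕ :=
  ∑ c ∈ repsZ Q M, vz r ((Q ^ perZ Q M c) ^ dd Q M r c - 1) * ewt (dd Q M r c) (t c)

theorem not_dvd_of_unit {r : ℕ} (hr : r.Prime) (hQr : IsUnit (Q : ZMod r)) (k : ℕ) : ¬ (r : ℤ) ∣ Q ^ k := by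
  have := Fact.mk hr
  intro h
  have h2 : ((Q ^ k : ℤ) : ZMod r) = 0 := (ZMod.intCast_zmod_eq_zero_iff_dvd _ _).2 h
  rw [Int.cast_pow] at h2
  exact (hQr.pow k).ne_zero h2

theorem dd_pos {r : ℕ} (hr : r.Prime) (hQr : IsUnit (Q : ZMod r)) (c : ZMod M) : 0 < dd Q M r c := by
  have := Fact.mk hr
  have h := Cfsg.Agent.H76.GLB.eD_pos (M := M) hr hQr c
  rwa [eD, ← Int.cast_pow] at h

theorem sum_reps (hQ : IsUnit (Q : ZMod M)) {n : ℕ} (T : LabZ Q M m n) :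
    ∑ c ∈ repsZ Q M, perZ Q M c * bsz (T.t c) = n := (nuP_deg hQ T.t T.orb).trans T.sum

theorem per_mul_le (hQ : IsUnit (Q : ZMod M)) {n : ℕ} (T : LabZ Q M m n) {c : ZMod M} (hc : c ∈ repsZ Q M) :
    perZ Q M c * bsz (T.t c) ≤ n :=
  (Finset.single_le_sum (f := fun c => perZ Q M c * bsz (T.t c)) (fun _ _ => Nat.zero_le _) hc).trans_eq
    (sum_reps hQ T)

theorem ewt_lt (hQ : IsUnit (Q : ZMod M)) {r : ℕ} (hr : r.Prime) (hQr : IsUnit (Q : ZMod r)) {n : ℕ}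
    (hn : n < orderOf (Q : ZMod r) * r) (T : LabZ Q M m n) {c : ZMod M} (hc : c ∈ repsZ Q M) :
    ewt (dd Q M r c) (T.t c) < r := by
  have hd := dd_pos (M := M) hr hQr c
  have hp := perZ_pos hQ c
  have h1 := ewt_mul_le hd (T.mono c)
  have h2 := per_mul_le hQ T hc
  have h3 : orderOf (Q : ZMod r) ≤ perZ Q M c * dd Q M r c := by
    refine Nat.le_of_dvd (Nat.mul_pos hp hd) (orderOf_dvd_of_pow_eq_one ?_)
    rw [pow_mul, ← Int.cast_pow]
    exact pow_orderOf_eq_one _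
  by_contra h4
  have h5 : orderOf (Q : ZMod r) * r ≤ perZ Q M c * dd Q M r c * ewt (dd Q M r c) (T.t c) :=
    Nat.mul_le_mul h3 (not_lt.1 h4)
  have h6 : perZ Q M c * (dd Q M r c * ewt (dd Q M r c) (T.t c)) ≤ perZ Q M c * bsz (T.t c) :=
    Nat.mul_le_mul_left _ h1
  rw [mul_assoc] at h5
  omega

/-- the valuation of the generic degree -/
theorem eps_val (hQ : IsUnit (Q : ZMod M)) (h2 : 2 ≤ |Q|) {r : ℕ} (hr : r.Prime) (ho : Odd r)
    (hQr : IsUnit (Q : ZMod r)) {n : ℕ} (hn : n < orderOf (Q : ZMod r) * r) (T : LabZ Q M m n) {D : ℕ} {s : ℤˣ}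
    (hD : ((s : ℤ) : ℂ) * (D : ℂ) = ph (Q : ℂ) n * eps Q M (SchP Q M T.t)) :
    D.factorization r + WW Q M r T.t = vz r (PH Q n) := by
  choose u A h using fun c : ZMod M => eps_SS hQ h2 c (T.mono c)
  have hT : ∀ c : ZMod M, 2 ≤ |Q ^ perZ Q M c| := fun c => two_pow h2 (perZ_pos hQ c)
  have h1 : (s : ℤ) * D * ∏ c ∈ repsZ Q M, (PB (Q ^ perZ Q M c) (T.t c) * (Q ^ perZ Q M c) ^ A c) =
      PH Q n * ∏ c ∈ repsZ Q M, ((u c : ℤ) * VD (Q ^ perZ Q M c) (T.t c)) := by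
    apply Int.cast_injective (α := ℂ)
    rw [Int.cast_mul, Int.cast_mul, Int.cast_natCast, hD, Int.cast_mul, PH_cast, Int.cast_prod, Int.cast_prod,
      SchP_eq, prodS, map_prod, mul_assoc, ← Finset.prod_mul_distrib]
    congr 1
    exact Finset.prod_congr rfl fun c _ => h c
  have h3 : ∀ c : ZMod M, PB (Q ^ perZ Q M c) (T.t c) * (Q ^ perZ Q M c) ^ A c ≠ 0 := fun c =>
    mul_ne_zero (PB_ne (hT c) _) (pow_ne_zero _ (ne_zero_of_two (hT c)))
  have h4 : ∀ c : ZMod M, (u c : ℤ) * VD (Q ^ perZ Q M c) (T.t c) ≠ 0 := fun c =>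
    mul_ne_zero (u c).ne_zero (VD_ne (hT c) (T.mono c))
  have h5 : (s : ℤ) * D ≠ 0 := by
    intro h0
    rw [h0, zero_mul] at h1
    exact mul_ne_zero (PH_ne h2 n) (Finset.prod_ne_zero_iff.2 fun c _ => h4 c) h1.symm
  have h6 := congrArg (vz r) h1
  rw [vz_mul h5 (Finset.prod_ne_zero_iff.2 fun c _ => h3 c), vz_unit, vz_natCast,
    vz_mul (PH_ne h2 n) (Finset.prod_ne_zero_iff.2 fun c _ => h4 c), vz_prod _ _ _ fun c _ => h3 c,
    vz_prod _ _ _ fun c _ => h4 c] at h6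
  have h7 : ∀ c ∈ repsZ Q M, vz r (PB (Q ^ perZ Q M c) (T.t c) * (Q ^ perZ Q M c) ^ A c) =
      vz r ((u c : ℤ) * VD (Q ^ perZ Q M c) (T.t c)) +
        vz r ((Q ^ perZ Q M c) ^ dd Q M r c - 1) * ewt (dd Q M r c) (T.t c) := by
    intro c hc
    rw [vz_mul (PB_ne (hT c) _) (pow_ne_zero _ (ne_zero_of_two (hT c))), vz_pow hr (not_dvd_of_unit hr hQr _),
      add_zero, vz_unit]
    exact val_tuple hr ho (hT c) (not_dvd_of_unit hr hQr _) rfl (dd_pos hr hQr c) (T.mono c)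
      (ewt_lt hQ hr hQr hn T hc)
  rw [Finset.sum_congr rfl h7, Finset.sum_add_distrib] at h6
  unfold WW
  omega

/-- short orbits of labels of `p`-power order -/
theorem per_eq {p : ℕ} (hp : p.Prime) (hQ : IsUnit (Q : ZMod M)) (hQp : IsUnit (Q : ZMod p)) {c : ZMod M} (hc : c ≠ 0)
    (h : PPow M p c) (hlt : perZ Q M c < orderOf (Q : ZMod p) * p) : perZ Q M c = orderOf (Q : ZMod p) := by
  obtain ⟨j, hj⟩ := h
  have h1 : ∀ k : ℕ, perZ Q M c ∣ k ↔ (p : ℤ) ^ j ∣ Q ^ k - 1 := by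
    intro k
    have h2 : (Q : ZMod M) ^ k * c = c ↔ (Q ^ k - 1 : ℤ) • c = 0 := by
      rw [sub_smul, one_smul, sub_eq_zero, zsmul_eq_mul]
      push_cast
      rfl
    rw [← pow_mul_eq_iff, h2, ← addOrderOf_dvd_iff_zsmul_eq_zero, hj, Nat.cast_pow]
  have hj0 : j ≠ 0 := by
    rintro rfl
    rw [pow_zero, AddMonoid.addOrderOf_eq_one_iff] at hj
    exact hc hj
  have h2 := (h1 _).1 dvd_rfl
  obtain ⟨k, hk⟩ := (Cfsg.Agent.H421.HT.dvd_iff _).1 ((dvd_pow_self (p : ℤ) hj0).trans h2)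
  have hk0 : 0 < k := by
    have := perZ_pos hQ c
    rw [hk] at this
    exact Nat.pos_of_mul_pos_left this
  have hkp : k < p := by
    rw [hk] at hlt
    exact Nat.lt_of_mul_lt_mul_left hlt
  have h3 : (p : ℤ) ∣ Q ^ orderOf (Q : ZMod p) - 1 := (Cfsg.Agent.H421.HT.dvd_iff _).2 dvd_rfl
  have h4 := emultiplicity_pow_sub_pow_of_prime (Nat.prime_iff_prime_int.1 hp) h3 (not_dvd_of_unit hp hQp _) (n := k)
    (fun h => Nat.not_dvd_of_pos_of_lt hk0 hkp (Int.natCast_dvd_natCast.1 h))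
  rw [hk, pow_mul, pow_dvd_iff_le_emultiplicity, ← one_pow k, h4, ← pow_dvd_iff_le_emultiplicity, ← h1] at h2
  exact Nat.dvd_antisymm h2 ⟨k, hk⟩

theorem zero_mem_reps (hQ : IsUnit (Q : ZMod M)) : (0 : ZMod M) ∈ repsZ Q M :=
  mem_repsZ.2 (Cfsg.Agent.H139.XZ.canon_zero hQ)

/-- the total weight if all nonzero labels have orbits of length `e` -/
theorem WW_eq (hQ : IsUnit (Q : ZMod M)) {r : ℕ} (hr : r.Prime) (hQr : IsUnit (Q : ZMod r)) {n e : ℕ}
    (he : orderOf (Q : ZMod r) = e) (T : LabZ Q M m n) (h : ∀ c, c ≠ 0 → bsz (T.t c) ≠ 0 → perZ Q M c = e) :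
    ∃ B, bsz (T.t 0) + e * B = n ∧ WW Q M r T.t = vz r (Q ^ e - 1) * (ewt e (T.t 0) + B) := by
  classical
  have := Fact.mk hr
  refine ⟨∑ c ∈ (repsZ Q M).erase 0, bsz (T.t c), ?_, ?_⟩
  · refine Eq.trans ?_ (sum_reps hQ T)
    rw [← Finset.add_sum_erase _ _ (zero_mem_reps hQ), Cfsg.Agent.H139.XZ.perZ_zero hQ, one_mul, Finset.mul_sum]
    congr 1
    refine Finset.sum_congr rfl fun c hc => ?_
    by_cases h0 : bsz (T.t c) = 0
    · rw [h0, mul_zero, mul_zero]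
    · rw [h c (Finset.ne_of_mem_erase hc) h0]
  · have h1 : dd Q M r 0 = e := by rw [dd, Cfsg.Agent.H139.XZ.perZ_zero hQ, pow_one, he]
    rw [WW, ← Finset.add_sum_erase _ _ (zero_mem_reps hQ), h1, Cfsg.Agent.H139.XZ.perZ_zero hQ, pow_one, mul_add,
      Finset.mul_sum]
    congr 1
    refine Finset.sum_congr rfl fun c hc => ?_
    have h2 := ewt_mul_le (dd_pos (M := M) hr hQr c) (T.mono c)
    by_cases h0 : bsz (T.t c) = 0
    · rw [h0, Nat.le_zero, mul_eq_zero] at h2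
      rw [h0, h2.resolve_left (dd_pos (M := M) hr hQr c).ne', mul_zero, mul_zero]
    · have h3 := h c (Finset.ne_of_mem_erase hc) h0
      have h4 : dd Q M r c = 1 := by
        rw [dd, h3, Int.cast_pow, ← he, pow_orderOf_eq_one, orderOf_one]
      have h5 : ewt 1 (T.t c) = bsz (T.t c) := by
        have h6 := ewt_add one_pos (T.mono c)
        have h7 := sum_core (T.mono c).injective h6
        have h8 := ewt_mul_le one_pos (T.mono c)
        have h9 : npairs 1 (T.t c) = npairs 1 (fun i : Fin m => (i : ℕ)) :=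
          npairs_of_mod fun j => by rw [Nat.mod_one, Nat.mod_one]
        have h10 := npairs_le one_pos (β := fun i : Fin m => (i : ℕ)) Fin.val_injective
        simp only [Nat.div_one] at h6 h10
        unfold bsz at h8 ⊢
        omega
      rw [h4, h3, pow_one, h5]

end lab

section tow

variable {K : Type u} [Field K] {θ : K →*₀ ℂ} {Q : ℤ} {M : ℕ} [NeZero M] {N p : ℕ} {G : ℕ → Type u} [∀ n, Group (G n)]
    [∀ n, Finite (G n)] {𝔐 : Ideal AlgInt}

theorem deg_val (ctx : CtxQ θ Q M N) (t : Tow θ Q M N p G) {n : ℕ} (hn : n ≤ N) (h1 : (t.T n hn).typ 1 = tyOne Q n)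
    {r : ℕ} (hr : r.Prime) (ho : Odd r) (hQr : IsUnit (Q : ZMod r)) (hlt : n < orderOf (Q : ZMod r) * r) {m : ℕ}
    {χ : IrrCharacter (G n)} {T : LabZ Q M m n} (hχ : (t.R n hn).IsLb χ T) :
    (charDegree (χ : G n → ℂ)).factorization r + WW Q M r T.t = vz r (PH Q n) := by
  obtain ⟨s, hs⟩ := hχ
  refine eps_val ctx.unit ctx.two hr ho hQr hlt T (s := s) ?_
  rw [← om_one ctx t hn h1 (schP_mem_hom ctx.unit T), ← irr_one_eq_charDegree χ.2]
  exact (congrFun hs 1).symm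

/-- **the degrees in the principal block** -/
theorem tow_main (h𝔐 : IsPModular p 𝔐) (ctx : CtxQ θ Q M N) (hQp : IsUnit (Q : ZMod p)) (t : Tow θ Q M N p G)
    {n : ℕ} (hn : n ≤ N) (hm : 0 < n) (h1 : (t.T n hn).typ 1 = tyOne Q n) {r : ℕ} (hr : r.Prime) (ho : Odd r)
    (hQr : IsUnit (Q : ZMod r)) {e : ℕ} (hep : orderOf (Q : ZMod p) = e) (her : orderOf (Q : ZMod r) = e)
    (hp' : n < e * p) (hr' : n < e * r) (χ : IrrCharacter (G n)) (hχ : χ ∈ principalBlock 𝔐 (G n)) :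
    ¬ r ∣ charDegree (χ : G n → ℂ) := by
  classical
  have hp : p.Prime := h𝔐.1
  have := isPrime_of_isPModular h𝔐
  have he0 : 0 < e := Nat.pos_of_ne_zero fun h => by
    rw [h, zero_mul] at hp'
    omega
  obtain ⟨T, hT, -⟩ := (t.bij n n hn le_rfl).1 χ
  set U : LabZ Q M n n := Cfsg.Agent.H139.XZ.unl ctx.unit (Cfsg.Agent.H531.HT.row_mono n n)
    (Cfsg.Agent.H531.HT.sum_row' hm n) with hU
  have hU0 : U.t 0 = row n n := Cfsg.Agent.H139.XZ.unl_zero _ _ _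
  have hUc : ∀ c, c ≠ 0 → bsz (U.t c) = 0 := fun c hc => by
    rw [hU, Cfsg.Agent.H139.XZ.unl_ne _ _ _ hc]
    exact Cfsg.Agent.H76.GLB.bsz_idb
  have hUn : bsz (U.t 0) = n := by rw [hU0, Cfsg.Agent.H531.HT.sum_row' hm]
  have hL : (t.R n hn).IsLb ⟨fun _ => 1, isIrrCharacter_one⟩ U := by
    refine ⟨1, ?_⟩
    rw [hU, Cfsg.Agent.H139.XZ.SchP_unl, Units.val_one, Int.cast_one, one_smul]
    exact om_row ctx t hn hm
  have hF := (t.R n hn).sameFam_of_mem h𝔐 le_rfl (t.bij n n hn le_rfl)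
    Blocks.PrincipalSection.isPBlock_principalBlock hχ
    Blocks.PrincipalSection.one_mem_principalBlock hT hL
  obtain ⟨h2, h3⟩ := hF 0 (by rw [PReg, addOrderOf_zero]; exact Nat.coprime_one_left p)
  rw [eD, Cfsg.Agent.H139.XZ.perZ_zero ctx.unit, pow_one, hep] at h3
  have h4 : sfun M p U.t 0 = n := by
    rw [sfun, Finset.sum_eq_single 0, hUn]
    · intro c _ hc
      exact hUc c hc
    · intro h
      exact (h (Finset.mem_filter.2 ⟨Finset.mem_univ _, 0, by rw [sub_zero, addOrderOf_zero, pow_zero]⟩)).elim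
  have h5 : ∀ c, bsz (T.t c) ≠ 0 → PPow M p c := by
    intro c hc
    by_contra hP
    have h6 := Finset.sum_filter_add_sum_filter_not Finset.univ (fun c : ZMod M => PPow M p (c - 0))
      (fun c => bsz (T.t c))
    rw [h4, sfun] at h2
    rw [T.sum, h2, Nat.add_eq_left, Finset.sum_eq_zero_iff] at h6
    exact hc (h6 c (Finset.mem_filter.2 ⟨Finset.mem_univ _, by rwa [sub_zero]⟩))
  have h6 : ∀ c, c ≠ 0 → bsz (T.t c) ≠ 0 → perZ Q M c = e := by
    intro c hc h0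
    rw [← hep]
    refine per_eq hp ctx.unit hQp hc (h5 c h0) ?_
    have h7 := per_mul_le ctx.unit T (canon_mem_repsZ ctx.unit c)
    rw [t_canon T.t T.orb, ← perZ_of_same ctx.unit (sameZ_canon c)] at h7
    have h8 := Nat.le_mul_of_pos_right (perZ Q M c) (Nat.pos_of_ne_zero h0)
    rw [hep]
    omega
  obtain ⟨B, hB, hW⟩ := WW_eq ctx.unit hr hQr her T h6
  obtain ⟨B', hB', hW'⟩ := WW_eq ctx.unit hr hQr her U fun c hc h0 => (h0 (hUc c hc)).elim
  have hB0 : B' = 0 := by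
    rw [hUn, Nat.add_eq_left, mul_eq_zero] at hB'
    exact hB'.resolve_left he0.ne'
  have h7 := ewt_col he0 (T.mono 0) (U.mono 0) h3 (hB.trans hUn.symm)
  have h8 := deg_val ctx t hn h1 hr ho hQr (her ▸ hr') hT
  have h9 := deg_val ctx t hn h1 hr ho hQr (her ▸ hr') hL
  rw [hW, h7] at h8
  rw [hW', hB0, add_zero] at h9
  have h10 : charDegree (fun _ : G n => (1 : ℂ)) = 1 := by
    have h11 := irr_one_eq_charDegree (isIrrCharacter_one (G := G n))
    exact_mod_cast h11.symm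
  change (charDegree (fun _ : G n => (1 : ℂ))).factorization r + _ = _ at h9
  rw [h10, Nat.factorization_one, Finsupp.zero_apply] at h9
  intro hd
  have h14 := hr.factorization_pos_of_dvd (Blocks.Basic.charDegree_pos χ.2).ne' hd
  omega

end tow

end Cfsg.Agent.LV.A
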