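import Cfsg.Agent.LV.A.Sys
import Cfsg.Agent.H201.RowSU
import Cfsg.Agent.H567.GapPSU

/-!
# LV-A (helper35): the numbers for `SL_n(q)` and `SU_n(q)`

* `num_SL`, `num_SU`;
* `special_PSL`, `special_PSU` : `p` divides the order of the centre (the argument of helper567);
* `one_PSL`, `one_PSU`, `two_PSL`, `two_PSU` : the numbers for the simple groups.
-/

set_option autoImplicit false

namespace Cfsg.Agent.LV.A

open Cfsg Subgroup Cfsg.Agent.H630.NH Cfsg.Agent.H573 Cfsg.Agent.H567.Gap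

section num

open Matrix Cfsg.Agent.H201.MatSys Cfsg.Agent.H201.MatSpec Cfsg.Agent.H201.RowSU Cfsg.Agent.LieClassical

variable {F : Type} [Field F] [Fintype F] {q : ℕ}

theorem num_SU (hF : Fintype.card F = q ^ 2) (r : ℕ) [Fact r.Prime] [CharP F r] (n : ℕ) :
    Num r (-(q : ℤ)) n (SU n F q) := by
  have hq := GUOrder.two_le hF
  obtain ⟨k, hk⟩ := exists_pow hF r
  have hr : r.Prime := Fact.out
  have hs : ∀ s : ℕ, s.Prime → s ≠ r → ¬ (s : ℤ) ∣ -(q : ℤ) := by
    intro s hs hsr hd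
    rw [Int.dvd_neg, Int.natCast_dvd_natCast, hk] at hd
    exact hsr ((Nat.prime_dvd_prime_iff_eq hs hr).1 (hs.dvd_of_dvd_pow hd))
  refine Num.congr (X := (GUOrder.detGU n F q).ker) { GUOrder.kerEquiv (F := F) (q := q) n with
    map_mul' := fun x y => Subtype.ext (Subtype.ext rfl) } ?_
  refine natSys_num (F := F) (fun n => Fin n) (fun n => Cfsg.GU n F q) r (fun n => by simp)
    (-(q : ℤ)) ?_ hs (dec hF) {-(q : ℤ)} (closure_exp hF r) ?_ ?_ (powMonoidHom (q + 1) : Fˣ →* Fˣ).ker ?_ ?_ ?_ n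
  · intro i hi h
    have h1 := congrArg Int.natAbs h
    rw [Int.natAbs_pow, Int.natAbs_neg, Int.natAbs_natCast, Int.natAbs_one] at h1
    have h2 := Nat.one_lt_pow hi (show 1 < q by omega)
    omega
  · intro s hs1 _ hsr
    have : Fact s.Prime := ⟨hs1⟩
    rw [card_Hs_singleton (hs s hs1 hsr), one_mul]
  · intro n
    refine ⟨k * (n * (n - 1) / 2), ?_⟩
    rw [S0277.result hF n, natAbs_prod q hq n, hk, ← pow_mul]
  · intro n x
    rcases Nat.eq_zero_or_pos n with rfl | hn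
    · have h0 : Matrix.GeneralLinearGroup.det (x : GL (Fin 0) F) = 1 := by
        apply Units.ext
        exact Matrix.det_isEmpty
      rw [h0]
      exact one_mem _
    · rw [← GUOrder.range_detGU hF hn]
      exact ⟨x, rfl⟩
  · intro u hu
    rw [← GUOrder.range_detGU hF le_rfl] at hu
    exact hu
  · intro s hd
    rw [GUOrder.card_ker_pow hF] at hd
    have h1 : (s : ℤ) ∣ ((q + 1 : ℕ) : ℤ) := Int.natCast_dvd_natCast.2 hd
    have h2 : -(q : ℤ) - 1 = -((q + 1 : ℕ) : ℤ) := by push_cast; ring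
    rw [h2, Int.dvd_neg]
    exact h1

theorem card_gl (n : ℕ) : Nat.card (GL (Fin n) F) = Fintype.card F ^ (n * (n - 1) / 2) *
    (∏ i ∈ Finset.range n, ((Fintype.card F : ℤ) ^ (i + 1) - 1)).natAbs := by
  have h0 : (∏ i ∈ Finset.range n, ((Fintype.card F : ℤ) ^ (i + 1) - 1)).natAbs =
      ∏ i ∈ Finset.range n, (Fintype.card F ^ (i + 1) - 1) := by
    rw [← Int.natAbsHom_apply, map_prod]
    refine Finset.prod_congr rfl fun i _ => ?_
    rw [Int.natAbsHom_apply, ← Int.natAbs_natCast (Fintype.card F ^ (i + 1) - 1),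
      Nat.cast_sub (Nat.one_le_pow _ _ Fintype.card_pos), Nat.cast_pow, Nat.cast_one]
  have h2 : ∏ i ∈ Finset.range n, (Fintype.card F ^ n - Fintype.card F ^ i) =
      ∏ i ∈ Finset.range n, (Fintype.card F ^ i * (Fintype.card F ^ (n - i) - 1)) := by
    refine Finset.prod_congr rfl fun i hi => ?_
    rw [Finset.mem_range] at hi
    rw [Nat.mul_sub, ← pow_add, mul_one, Nat.add_sub_cancel' hi.le]
  rw [Matrix.card_GL_field, Fin.prod_univ_eq_prod_range (fun i => Fintype.card F ^ n - Fintype.card F ^ i) n, h0, h2,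
    Finset.prod_mul_distrib, Finset.prod_pow_eq_pow_sum, Finset.sum_range_id]
  congr 1
  rw [← Finset.prod_range_reflect]
  refine Finset.prod_congr rfl fun i hi => ?_
  rw [Finset.mem_range] at hi
  congr 2
  omega

/-- the kernel of the determinant -/
noncomputable def kerSL (F : Type) [Field F] (n : ℕ) :
    (detHom (F := F) (fun n => Fin n) (fun _ => ⊤) n).ker ≃* SpecialLinearGroup (Fin n) F where
  toFun g := ⟨(g.1.1 : Matrix (Fin n) (Fin n) F), congrArg (fun x : Fˣ => (x : F)) (MonoidHom.mem_ker.1 g.2)⟩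
  invFun g := ⟨⟨(g : GL (Fin n) F), mem_top _⟩, MonoidHom.mem_ker.2 (Units.ext g.2)⟩
  left_inv _ := Subtype.ext (Subtype.ext (Units.ext rfl))
  right_inv _ := Subtype.ext rfl
  map_mul' _ _ := Subtype.ext rfl

theorem num_SL (r : ℕ) [Fact r.Prime] [CharP F r] (n : ℕ) :
    Num r (Fintype.card F : ℤ) n (SpecialLinearGroup (Fin n) F) := by
  obtain ⟨k, hr, hk⟩ := FiniteField.card F r
  have hs : ∀ s : ℕ, s.Prime → s ≠ r → ¬ (s : ℤ) ∣ (Fintype.card F : ℤ) := by
    intro s hs hsr hd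
    rw [Int.natCast_dvd_natCast, hk] at hd
    exact hsr ((Nat.prime_dvd_prime_iff_eq hs hr).1 (hs.dvd_of_dvd_pow hd))
  have hF1 : 1 < Fintype.card F := Fintype.one_lt_card
  refine Num.congr (kerSL F n) ?_
  refine natSys_num (F := F) (fun n => Fin n) (fun _ => ⊤) r (fun n => by simp)
    (Fintype.card F : ℤ) ?_ hs ?_ {(Fintype.card F : ℤ)} ?_ ?_ ?_ ⊤ (fun _ _ => mem_top _) ?_ ?_ n
  · intro i hi h
    have h1 := congrArg Int.natAbs h
    rw [Int.natAbs_pow, Int.natAbs_natCast, Int.natAbs_one] at h1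
    have h2 := Nat.one_lt_pow hi hF1
    omega
  · exact fun a b => ⟨bcEquiv finSumFinEquiv, fun x y => ⟨fun _ => mem_top _, fun _ => ⟨mem_top _, mem_top _⟩⟩⟩
  · intro n x z hz c hc
    rw [Set.mem_singleton_iff] at hc
    rw [hc, zpow_natCast]
    exact sp_frob _ hz
  · intro s hs1 _ hsr
    have : Fact s.Prime := ⟨hs1⟩
    rw [card_Hs_singleton (hs s hs1 hsr), one_mul]
  · intro n
    refine ⟨k * (n * (n - 1) / 2), ?_⟩
    rw [card_top, card_gl, pow_mul, ← hk]
  · intro u _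
    refine ⟨⟨Matrix.GeneralLinearGroup.scalar (Fin 1) u, mem_top _⟩, Units.ext ?_⟩
    change (Matrix.scalar (Fin 1) (u : F)).det = u
    rw [Matrix.det_unique, scalar_apply, diagonal_apply_eq]
  · intro s hd
    rw [card_top, Nat.card_units, Nat.card_eq_fintype_card] at hd
    have h1 : (s : ℤ) ∣ ((Fintype.card F - 1 : ℕ) : ℤ) := Int.natCast_dvd_natCast.2 hd
    rwa [Nat.cast_sub hF1.le, Nat.cast_one] at h1

end num

section special

variable {p : ℕ} [hp : Fact p.Prime] {F : Type*} [Field F] [Fintype F] {n q : ℕ}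

open Matrix in
theorem special_PSL (hn : 2 ≤ n) (hp2 : p ≠ 2) (hG : PCent p (Matrix.ProjectiveSpecialLinearGroup (Fin n) F))
    (hpq : p ∣ Fintype.card F - 1) (hpn : p ∣ n) :
    ¬ p ^ 3 ∣ Nat.card (Matrix.ProjectiveSpecialLinearGroup (Fin n) F) := by
  have h1q : 1 < Fintype.card F := Fintype.one_lt_card
  have hcu : Nat.card Fˣ = Fintype.card F - 1 := by rw [Nat.card_units, Nat.card_eq_fintype_card]
  have hn3 : 3 ≤ n := by
    have h1 := Nat.le_of_dvd (by omega) hpn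
    have h2 := hp.out.two_le
    omega
  have hq0 : Fintype.card F - 1 ≠ 0 := by omega
  set k := padicValNat p (Fintype.card F - 1) with hk
  have hk1 : p ^ k ∣ Fintype.card F - 1 := pow_padicValNat_dvd
  have hk2 : ¬ p ^ (k + 1) ∣ Fintype.card F - 1 := pow_succ_padicValNat_not_dvd hq0
  have hk0 : 1 ≤ k := by
    by_contra h0
    obtain h0 : k = 0 := by omega
    rw [h0, zero_add, pow_one] at hk2
    exact hk2 hpq
  by_cases hh : 4 ≤ n ∨ p ^ k ≠ 3
  · exfalso
    have hcyc : IsCyclic Fˣ := inferInstance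
    obtain ⟨y, hy⟩ := hcyc.exists_ofOrder_eq_natCard
    rw [hcu] at hy
    have hord : ∀ d, d ∣ Fintype.card F - 1 → ∃ u : Fˣ, orderOf u = d := by
      intro d hd
      refine ⟨y ^ ((Fintype.card F - 1) / d), ?_⟩
      rw [orderOf_pow, hy, Nat.gcd_eq_right (Nat.div_dvd_of_dvd hd)]
      exact Nat.div_div_self hd hq0
    obtain ⟨ζ, hζ⟩ := hord p hpq
    obtain ⟨c, hc⟩ := hord _ hk1
    let ρ : SpecialLinearGroup (Fin n) F →* Matrix (Fin n) (Fin n) F :=
      { toFun := fun A => A.1, map_one' := rfl, map_mul' := fun _ _ => rfl }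
    refine not_pcent_special (p := p) ρ (fun a b hab => Subtype.ext hab) ?_ hp2 hn3 hpn ?_ ?_ (ζ := ζ) (c := c)
      (by rw [orderOf_units, hζ]) (by rw [orderOf_units, hc]) hk0 ?_ hh hG
    · intro z hz
      obtain ⟨μ, -, hμ⟩ := Matrix.SpecialLinearGroup.mem_center_iff.1 hz
      refine ⟨μ, ?_⟩
      show (z : Matrix (Fin n) (Fin n) F) = μ • 1
      rw [← hμ, smul_one_eq_diagonal]
      rfl
    · intro t _ ht
      exact ⟨⟨diagonal t, by rw [det_diagonal, ht]⟩, rfl⟩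
    · intro σ hσ
      exact ⟨⟨σ.permMatrix F, by rw [det_permutation, hσ]; simp⟩, rfl⟩
    · refine ⟨⟨diagonal (dd (c : F)), ?_⟩, rfl⟩
      rw [det_diagonal]
      obtain ⟨m, rfl⟩ : ∃ m, n = m + 2 := ⟨n - 2, by omega⟩
      rw [Fin.prod_univ_succ, Fin.prod_univ_succ]
      have h0 : dd (c : F) (0 : Fin (m + 2)) = c := if_pos rfl
      have h1 : dd (c : F) (Fin.succ (0 : Fin (m + 1))) = (c : F)⁻¹ := by
        unfold dd
        rw [if_neg (by simp), if_pos (by simp)]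
      have h2 : ∀ i : Fin m, dd (c : F) (Fin.succ (Fin.succ i)) = 1 := by
        intro i
        unfold dd
        rw [if_neg (by simp), if_neg (by simp)]
      rw [h0, h1, Finset.prod_congr rfl (fun i _ => h2 i), Finset.prod_const_one, mul_one,
        mul_inv_cancel₀ c.ne_zero]
  · push Not at hh
    obtain ⟨hn4, hk3⟩ := hh
    obtain rfl : n = 3 := by omega
    have hp3 : p = 3 := (Nat.prime_dvd_prime_iff_eq hp.out Nat.prime_three).1 hpn
    intro hd
    have hc := Cfsg.Agent.S0243.result (F := F) rfl 3 (by norm_num)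
    subst hp3
    have hk1' : k = 1 := by
      have h1 : 3 ^ k = 3 ^ 1 := by rw [hk3, pow_one]
      exact Nat.pow_right_injective (le_refl 2 |>.trans (by norm_num)) h1
    rw [hk1'] at hk2
    obtain ⟨u, hu⟩ := hpq
    set q := Fintype.card F with hq
    have hqu : q = 3 * u + 1 := by omega
    have h3u : ¬ 3 ∣ u := by
      rintro ⟨v, rfl⟩
      apply hk2
      rw [hu]
      exact ⟨v, by ring⟩
    have hg : Nat.gcd 3 (q - 1) = 3 := by rw [hu]; exact Nat.gcd_eq_left ⟨u, rfl⟩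
    rw [hg, hu] at hc
    obtain ⟨m, hm⟩ := hd
    rw [hm, Fin.prod_univ_three] at hc
    simp only [Fin.val_zero, Fin.val_one, Fin.val_two, pow_zero, pow_one] at hc
    have e1 : q ^ 3 - 1 = 9 * u * (3 * u ^ 2 + 3 * u + 1) := by
      rw [hqu]
      apply Nat.sub_eq_of_eq_add
      ring
    have e2 : q ^ 3 - q = 3 * u * (3 * u + 2) * q := by
      rw [hqu]
      apply Nat.sub_eq_of_eq_add
      ring
    have e3 : q ^ 3 - q ^ 2 = 3 * u * q ^ 2 := by
      rw [hqu]
      apply Nat.sub_eq_of_eq_add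
      ring
    rw [e1, e2, e3] at hc
    have hc' : 81 * (3 * (u * m)) = 81 * (u * u * u * (3 * u ^ 2 + 3 * u + 1) * (3 * u + 2) * q ^ 3) := by
      calc 81 * (3 * (u * m)) = 3 * (3 * u * (3 ^ 3 * m)) := by ring
        _ = _ := by rw [hc]; ring
    have hc2 := Nat.eq_of_mul_eq_mul_left (by norm_num) hc'
    have h3 : (3 : ℕ).Prime := Nat.prime_three
    have hd3 : 3 ∣ u * u * u * (3 * u ^ 2 + 3 * u + 1) * (3 * u + 2) * q ^ 3 := ⟨u * m, hc2.symm⟩
    rw [h3.dvd_mul, h3.dvd_mul, h3.dvd_mul, h3.dvd_mul, h3.dvd_mul] at hd3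
    rcases hd3 with ((((h | h) | h) | h) | h) | h
    · exact h3u h
    · exact h3u h
    · exact h3u h
    · omega
    · omega
    · have := h3.dvd_of_dvd_pow h
      omega

open Cfsg.Agent.LieClassical.HermBasic in
theorem special_PSU (hF : Fintype.card F = q ^ 2) (hn : 3 ≤ n) (hp2 : p ≠ 2) (hG : PCent p (PSU n F q))
    (hpq1 : p ∣ q + 1) (hpn : p ∣ n) : ¬ p ^ 3 ∣ Nat.card (PSU n F q) := by
  have hcu : Nat.card Fˣ = q ^ 2 - 1 := by rw [Nat.card_units, Nat.card_eq_fintype_card, hF]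
  have hq2 := two_le hF
  have hqq : q ^ 2 - 1 = (q + 1) * (q - 1) := by
    have := Nat.sq_sub_sq q 1
    rwa [one_pow] at this
  have hq0 : q + 1 ≠ 0 := by omega
  have hqq0 : q ^ 2 - 1 ≠ 0 := by
    rw [hqq]; exact Nat.mul_ne_zero (by omega) (by omega)
  set k := padicValNat p (q + 1) with hk
  have hk1 : p ^ k ∣ q + 1 := pow_padicValNat_dvd
  have hk2 : ¬ p ^ (k + 1) ∣ q + 1 := pow_succ_padicValNat_not_dvd hq0
  have hk0 : 1 ≤ k := by
    by_contra h0
    obtain h0 : k = 0 := by omega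
    rw [h0, zero_add, pow_one] at hk2
    exact hk2 hpq1
  by_cases hh : 4 ≤ n ∨ p ^ k ≠ 3
  · exfalso
    have hcyc : IsCyclic Fˣ := inferInstance
    obtain ⟨y, hy⟩ := hcyc.exists_ofOrder_eq_natCard
    rw [hcu] at hy
    have hord : ∀ d, d ∣ q ^ 2 - 1 → ∃ u : Fˣ, orderOf u = d := by
      intro d hd
      refine ⟨y ^ ((q ^ 2 - 1) / d), ?_⟩
      rw [orderOf_pow, hy, Nat.gcd_eq_right (Nat.div_dvd_of_dvd hd)]
      exact Nat.div_div_self hd hqq0
    obtain ⟨ζ, hζ⟩ := hord p (hqq ▸ hpq1.mul_right _)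
    obtain ⟨c, hc⟩ := hord _ (hqq ▸ hk1.mul_right _)
    refine not_pcent_special (p := p) (matHom n F q) matHom_injective ?_ hp2 hn hpn ?_ ?_ (ζ := ζ) (c := c)
      (by rw [orderOf_units, hζ]) (by rw [orderOf_units, hc]) hk0 ?_ hh hG
    · intro z hz
      obtain ⟨μ, -, hμ⟩ := H372.mat_center hF hn hz
      refine ⟨μ, ?_⟩
      rw [Matrix.smul_one_eq_diagonal]
      exact hμ
    · intro t ht1 ht
      refine exists_su (by rw [Matrix.det_diagonal, ht]) (herm_diagonal fun i => ?_)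
      obtain ⟨d, hd⟩ := hpq1
      rw [hd, pow_mul, ht1, one_pow]
    · intro σ hσ
      exact exists_su (by rw [Matrix.det_permutation, hσ]; simp) (herm_perm σ)
    · obtain ⟨m, rfl⟩ : ∃ m, n = m + 2 := ⟨n - 2, by omega⟩
      refine exists_su (by rw [Matrix.det_diagonal, prod_dd c.ne_zero]) (herm_diagonal fun i => ?_)
      have h1 : (c : F) ^ (q + 1) = 1 := by
        have h2 : c ^ (q + 1) = 1 := by
          rw [← orderOf_dvd_iff_pow_eq_one, hc]; exact hk1
        rw [← Units.val_pow_eq_pow_val, h2, Units.val_one]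
      unfold dd
      split_ifs
      · exact h1
      · rw [inv_pow, h1, inv_one]
      · exact one_pow _
  · push Not at hh
    obtain ⟨hn4, hk3⟩ := hh
    obtain rfl : n = 3 := by omega
    have hp3 : p = 3 := (Nat.prime_dvd_prime_iff_eq hp.out Nat.prime_three).1 hpn
    intro hd
    have hc := Cfsg.Agent.S0280.result hF 3 (by norm_num)
    subst hp3
    have hk1' : k = 1 := by
      have h1 : 3 ^ k = 3 ^ 1 := by rw [hk3, pow_one]
      exact Nat.pow_right_injective (le_refl 2 |>.trans (by norm_num)) h1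
    rw [hk1'] at hk2
    obtain ⟨u, hu⟩ := hpq1
    obtain ⟨v, rfl⟩ : ∃ v, u = v + 1 := ⟨u - 1, by omega⟩
    have hqu : q = 3 * v + 2 := by omega
    have h3u : ¬ 3 ∣ v + 1 := by
      rintro ⟨w, hw⟩
      apply hk2
      rw [hu, hw]
      exact ⟨w, by ring⟩
    have hg : Nat.gcd 3 (q + 1) = 3 := by rw [hu]; exact Nat.gcd_eq_left ⟨v + 1, rfl⟩
    rw [hg] at hc
    obtain ⟨m, hm⟩ := hd
    rw [hm, Finset.prod_range_succ, Finset.prod_range_succ, Finset.prod_range_succ, Finset.prod_range_zero,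
      if_pos (by decide), if_neg (by decide), if_pos (by decide)] at hc
    have e1 : q ^ (1 + 1) - 1 = 3 * (3 * v + 1) * (v + 1) := by
      rw [hqu]
      apply Nat.sub_eq_of_eq_add
      ring
    have e2 : q ^ (2 + 1) + 1 = 9 * (v + 1) * (3 * v ^ 2 + 3 * v + 1) := by
      rw [hqu]
      ring
    have e3 : q ^ (0 + 1) + 1 = 3 * (v + 1) := by
      rw [hqu]
      ring
    rw [e1, e2, e3, hu] at hc
    have hc' : 81 * (3 * ((v + 1) * m)) = 81 * ((v + 1) * (v + 1) * (v + 1) * (3 * v ^ 2 + 3 * v + 1) * (3 * v + 1) * q ^ 3) := by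
      calc 81 * (3 * ((v + 1) * m)) = 3 * (3 * (v + 1) * (3 ^ 3 * m)) := by ring
        _ = _ := by rw [hc]; ring
    have hc2 := Nat.eq_of_mul_eq_mul_left (by norm_num) hc'
    have h3 : (3 : ℕ).Prime := Nat.prime_three
    have hd3 : 3 ∣ (v + 1) * (v + 1) * (v + 1) * (3 * v ^ 2 + 3 * v + 1) * (3 * v + 1) * q ^ 3 := ⟨(v + 1) * m, hc2.symm⟩
    rw [h3.dvd_mul, h3.dvd_mul, h3.dvd_mul, h3.dvd_mul, h3.dvd_mul] at hd3
    rcases hd3 with ((((h | h) | h) | h) | h) | h
    · exact h3u h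
    · exact h3u h
    · exact h3u h
    · omega
    · omega
    · have := h3.dvd_of_dvd_pow h
      omega

end special

section simple

variable {F : Type} [Field F] [Fintype F] {n q p s t : ℕ}

theorem ne_char {r : ℕ} [CharP F r] (h : ¬ p ∣ Fintype.card F) : p ≠ r := by
  rintro rfl
  obtain ⟨k, -, hk⟩ := FiniteField.card F p
  exact h (hk ▸ dvd_pow_self p k.pos.ne')

theorem card_center_SL (hn : 0 < n) :
    Nat.card (center (Matrix.SpecialLinearGroup (Fin n) F)) = Nat.gcd n (Fintype.card F - 1) := by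
  classical
  have : Nonempty (Fin n) := ⟨⟨0, hn⟩⟩
  rw [Nat.card_congr (Matrix.SpecialLinearGroup.center_equiv_rootsOfUnity'
    (n := Fin n) (R := F) ⟨0, hn⟩).toEquiv, rootsOfUnity_eq_ker,
    IsCyclic.card_powMonoidHom_ker, Nat.card_units, Nat.card_eq_fintype_card, Fintype.card_fin, Nat.gcd_comm]

theorem one_PSL (hp : p.Prime) (hp2 : p ≠ 2) (hpF : ¬ p ∣ Fintype.card F) (hn : 2 ≤ n)
    (h : AbS p (Matrix.ProjectiveSpecialLinearGroup (Fin n) F))
    (h3 : p ^ 3 ∣ Nat.card (Matrix.ProjectiveSpecialLinearGroup (Fin n) F)) :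
    n < orderOf ((Fintype.card F : ℤ) : ZMod p) * p := by
  have := Fact.mk hp
  obtain ⟨r, hr⟩ := CharP.exists F
  have := Fact.mk (CharP.char_is_prime F r)
  have h1 : ¬ (p ∣ Fintype.card F - 1 ∧ p ∣ n) := fun h1 => special_PSL hn hp2 (pcent_of_abS h) h1.1 h1.2 h3
  refine (num_SL r n).one p hp hp2 (ne_char hpF) (abS_of_ker (QuotientGroup.mk' (center _)) ?_ h) fun h2 => h1 ⟨?_, h2.2⟩
  · rw [QuotientGroup.ker_mk', card_center_SL (by omega)]
    exact fun h2 => h1 ⟨h2.trans (Nat.gcd_dvd_right _ _), h2.trans (Nat.gcd_dvd_left _ _)⟩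
  · rw [← Int.natCast_dvd_natCast, Nat.cast_sub Fintype.card_pos, Nat.cast_one]
    exact h2.1

theorem one_PSU (hF : Fintype.card F = q ^ 2) (hp : p.Prime) (hp2 : p ≠ 2) (hpF : ¬ p ∣ Fintype.card F) (hn : 3 ≤ n)
    (h : AbS p (PSU n F q)) (h3 : p ^ 3 ∣ Nat.card (PSU n F q)) : n < orderOf ((-(q : ℤ) : ℤ) : ZMod p) * p := by
  have := Fact.mk hp
  obtain ⟨r, hr⟩ := CharP.exists F
  have := Fact.mk (CharP.char_is_prime F r)
  have h1 : ¬ (p ∣ q + 1 ∧ p ∣ n) := fun h1 => special_PSU hF hn hp2 (pcent_of_abS h) h1.1 h1.2 h3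
  refine (num_SU hF r n).one p hp hp2 (ne_char hpF) (abS_of_ker (QuotientGroup.mk' (center _)) ?_ h)
    fun h2 => h1 ⟨?_, h2.2⟩
  · rw [QuotientGroup.ker_mk', Cfsg.Agent.S0280.card_center hF n (by omega)]
    exact fun h2 => h1 ⟨h2.trans (Nat.gcd_dvd_right _ _), h2.trans (Nat.gcd_dvd_left _ _)⟩
  · have h4 : -(q : ℤ) - 1 = -((q + 1 : ℕ) : ℤ) := by push_cast; ring
    rw [← Int.natCast_dvd_natCast, ← Int.dvd_neg, ← h4]
    exact h2.1

/-- commuting Sylow subgroups of a central quotient -/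
theorem Num.quot {r : ℕ} {Q : ℤ} {X : Type*} [Group X] [Finite X] (h : Num r Q n X) (hs : s.Prime) (hs2 : s ≠ 2)
    (hsr : s ≠ r) (ht : t.Prime) (ht2 : t ≠ 2) (htr : t ≠ r) (hst : s ≠ t) (ds : s ∣ Nat.card (X ⧸ center X))
    (dt : t ∣ Nat.card (X ⧸ center X)) (hc : Cond {s, t} (X ⧸ center X)) :
    orderOf (Q : ZMod s) = orderOf (Q : ZMod t) ∧ n < orderOf (Q : ZMod s) * s ∧ n < orderOf (Q : ZMod t) * t := by
  refine h.two s t hs hs2 hsr ht ht2 htr hst (ds.trans (card_quotient_dvd_card _)) (dt.trans (card_quotient_dvd_card _))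
    (Cond.of_quot ?_ (QuotientGroup.mk' (center X)) (QuotientGroup.mk'_surjective _) ?_ hc)
  · rintro a (rfl | rfl)
    · exact hs
    · exact ht
  · rw [QuotientGroup.ker_mk']

end simple

end Cfsg.Agent.LV.A
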