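import Cfsg.Agent.H794.EM.Main
import Cfsg.Agent.H614.Hook

/-!
# LV-A (helper35): the generic degree of a tuple and its valuation

* `JT_val` : the Jacobi-Trudi determinant of the sequence `s ^ k / ph T k` (Vandermonde);
* `val_tuple` : the valuation of `∏ PH T (β i) / VD T β` for tuples of small weight.
-/

set_option autoImplicit false

namespace Cfsg.Agent.LV.A

open Finset Cfsg.Agent.H614 Cfsg.Agent.H794.EM Cfsg.Agent.H577.GLB.Std

variable {m : ℕ}

/-- the Vandermonde product -/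
def VD (T : ℤ) (β : Fin m → ℕ) : ℤ := ∏ j : Fin m, ∏ i ∈ Finset.Iio j, (T ^ β j - T ^ β i)

/-- the product of the orders -/
def PB (T : ℤ) (β : Fin m → ℕ) : ℤ := ∏ i, PH T (β i)

theorem det_VD (T : ℤ) (β : Fin m → ℕ) :
    ∑ σ : Equiv.Perm (Fin m), sg σ * ∏ i, ∏ l ∈ range (σ i : ℕ), (T ^ β i - T ^ l) = VD T β := by
  have h1 := Matrix.det_eval_matrixOfPolynomials_eq_det_vandermonde (R := ℤ)
    (fun i : Fin m => T ^ β i) (fun i => ∏ l ∈ range (i : ℕ), (Polynomial.X - Polynomial.C (T ^ l)))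
    (fun i => by rw [Polynomial.natDegree_finsetProd_X_sub_C_eq_card, card_range])
    (fun i => Polynomial.monic_prod_X_sub_C _ _)
  rw [Matrix.det_vandermonde] at h1
  have h2 : VD T β = ∏ i : Fin m, ∏ j ∈ Finset.Ioi i, (T ^ β j - T ^ β i) := by
    refine Finset.prod_comm' fun j i => ?_
    simp only [mem_univ, mem_Iio, mem_Ioi, true_and, and_true]
  rw [h2, h1, ← Matrix.det_transpose, Matrix.det_apply']
  refine Finset.sum_congr rfl fun σ _ => ?_
  congr 1
  refine Finset.prod_congr rfl fun i _ => ?_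
  rw [Matrix.transpose_apply, Matrix.of_apply, Polynomial.eval_prod]
  refine Finset.prod_congr rfl fun l _ => ?_
  rw [Polynomial.eval_sub, Polynomial.eval_X, Polynomial.eval_C]

theorem ph_split (T : ℂ) {a b : ℕ} (h : b ≤ a) :
    ph T a * ∏ l ∈ range b, T ^ l = ph T (a - b) * ∏ l ∈ range b, (T ^ a - T ^ l) := by
  induction b with
  | zero => rw [prod_range_zero, prod_range_zero, Nat.sub_zero]
  | succ b ih =>
    have e1 : a - b = (a - (b + 1)) + 1 := by omega
    have e2 : T ^ a = T ^ ((a - (b + 1)) + 1) * T ^ b := by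
      rw [← pow_add]
      congr 1
      omega
    rw [prod_range_succ, prod_range_succ, ← mul_assoc, ih (by omega), e1, ph_succ]
    nth_rewrite 3 [e2]
    ring

/-- the entries -/
theorem entry {T s : ℂ} (hT : ∀ i, 0 < i → T ^ i ≠ 1) (hs : s * s = 1) (a b : ℕ) :
    (if b ≤ a then s ^ (a - b) * (ph T (a - b))⁻¹ else 0) * (ph T a * ∏ l ∈ range b, T ^ l) =
      s ^ a * s ^ b * ∏ l ∈ range b, (T ^ a - T ^ l) := by
  split_ifs with h
  · have h1 : s ^ a * s ^ b = s ^ (a - b) := by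
      obtain ⟨c, rfl⟩ := Nat.exists_eq_add_of_le h
      rw [Nat.add_sub_cancel_left, pow_add, mul_right_comm, ← mul_pow, hs, one_pow, one_mul]
    rw [ph_split T h, h1, mul_assoc, ← mul_assoc (ph T (a - b))⁻¹, inv_mul_cancel₀ (ph_ne hT _), one_mul]
  · rw [zero_mul, Finset.prod_eq_zero (mem_range.2 (not_le.1 h)) (sub_self _), mul_zero]

/-- **the determinant** -/
theorem JT_val {T : ℤ} {s : ℤˣ} (hT : ∀ i, 0 < i → (T : ℂ) ^ i ≠ 1) (β : Fin m → ℕ) :
    ∃ (u : ℤˣ) (A : ℕ), (∑ σ : Equiv.Perm (Fin m), (sg σ : ℂ) * ∏ i,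
      (if (σ i : ℕ) ≤ β i then ((s : ℤ) : ℂ) ^ (β i - σ i) * (ph (T : ℂ) (β i - σ i))⁻¹ else 0)) *
        ((PB T β * T ^ A : ℤ) : ℂ) = (((u : ℤ) * VD T β : ℤ) : ℂ) := by
  have hs : ((s : ℤ) : ℂ) * ((s : ℤ) : ℂ) = 1 := by
    rw [← Int.cast_mul, ← Units.val_mul, Int.units_mul_self, Units.val_one, Int.cast_one]
  refine ⟨s ^ (∑ i, β i) * s ^ (∑ i : Fin m, (i : ℕ)), ∑ i : Fin m, ∑ l ∈ range (i : ℕ), l, ?_⟩
  rw [← det_VD, Finset.sum_mul]
  push_cast
  rw [Finset.mul_sum]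
  refine Finset.sum_congr rfl fun σ _ => ?_
  have h1 : ((PB T β : ℤ) : ℂ) * (T : ℂ) ^ (∑ i : Fin m, ∑ l ∈ range (i : ℕ), l) =
      ∏ i, (ph (T : ℂ) (β i) * ∏ l ∈ range (σ i : ℕ), (T : ℂ) ^ l) := by
    rw [Finset.prod_mul_distrib, PB, Int.cast_prod, ← Finset.prod_pow_eq_pow_sum,
      ← Equiv.prod_comp σ (fun i : Fin m => (T : ℂ) ^ ∑ l ∈ range (i : ℕ), l)]
    congr 1
    · exact Finset.prod_congr rfl fun i _ => PH_cast T _
    · exact Finset.prod_congr rfl fun i _ => (Finset.prod_pow_eq_pow_sum _ _ _).symm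
  rw [h1, mul_assoc, ← Finset.prod_mul_distrib, Finset.prod_congr rfl fun i _ => entry hT hs (β i) (σ i),
    Finset.prod_mul_distrib, Finset.prod_mul_distrib, Finset.prod_pow_eq_pow_sum, Finset.prod_pow_eq_pow_sum,
    Equiv.sum_comp σ (fun i : Fin m => (i : ℕ))]
  ring

/-! ### valuations -/

theorem vz_one (r : ℕ) : vz r 1 = 0 := by
  rw [vz, Int.natAbs_one, Nat.factorization_one]
  rfl

theorem vz_prod {ι : Type*} (r : ℕ) (S : Finset ι) (f : ι → ℤ) (hf : ∀ i ∈ S, f i ≠ 0) :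
    vz r (∏ i ∈ S, f i) = ∑ i ∈ S, vz r (f i) := by
  classical
  induction S using Finset.induction_on with
  | empty => rw [prod_empty, sum_empty, vz_one]
  | insert a S ha ih =>
    rw [prod_insert ha, sum_insert ha, vz_mul (hf a (mem_insert_self a S))
      (prod_ne_zero_iff.2 fun i hi => hf i (mem_insert_of_mem hi)), ih fun i hi => hf i (mem_insert_of_mem hi)]

theorem vz_pow {r : ℕ} (hr : r.Prime) {T : ℤ} (h : ¬ (r : ℤ) ∣ T) (k : ℕ) : vz r (T ^ k) = 0 := by
  refine Nat.factorization_eq_zero_of_not_dvd fun hd => h ?_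
  exact (Nat.prime_iff_prime_int.1 hr).dvd_of_dvd_pow (Int.natCast_dvd.2 hd)

theorem sum_split {β : Fin m → ℕ} (hβ : StrictMono β) (F : ℕ → ℕ) (j : Fin m) :
    ∑ x ∈ range (β j), F (x + 1) =
      ∑ x ∈ range (β j) \ (Iio j).image β, F (β j - x) + ∑ i ∈ Iio j, F (β j - β i) := by
  have h1 : (Iio j).image β ⊆ range (β j) := by
    intro x hx
    obtain ⟨i, hi, rfl⟩ := mem_image.1 hx
    exact mem_range.2 (hβ (mem_Iio.1 hi))
  rw [← Finset.sum_image (s := Iio j) (g := β) (f := fun x => F (β j - x)) fun a _ b _ h => hβ.injective h,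
    Finset.sum_sdiff h1, ← Finset.sum_range_reflect]
  refine Finset.sum_congr rfl fun x hx => ?_
  have := mem_range.1 hx
  congr 1
  omega

theorem ewt_add {d : ℕ} (hd : 0 < d) {β : Fin m → ℕ} (hβ : StrictMono β) :
    ∑ j, β j / d = ewt d β + npairs d β := by
  have := npairs_le hd hβ.injective
  unfold ewt
  omega

theorem ewt_mul_le {d : ℕ} (hd : 0 < d) {β : Fin m → ℕ} (hβ : StrictMono β) : d * ewt d β ≤ bsz β := by
  have h1 := sum_core hβ.injective (ewt_add hd hβ)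
  have h2 := sum_le_of_injective (core_injective hd hβ.injective)
  unfold bsz
  omega

/-- the gaps are short -/
theorem gap_le {d : ℕ} (hd : 0 < d) {β : Fin m → ℕ} (hβ : StrictMono β) {j : Fin m} {x : ℕ}
    (hx : x ∈ range (β j) \ (Iio j).image β) (hdv : d ∣ β j - x) : (β j - x) / d ≤ ewt d β := by
  by_contra hlt
  obtain ⟨hx1, hx2⟩ := mem_sdiff.1 hx
  have hx3 := mem_range.1 hx1
  have h1 : d * ((β j - x) / d) = β j - x := Nat.mul_div_cancel' hdv
  refine not_injective_dn hd (ewt_add hd hβ) j (c := (β j - x) / d) (by omega) (not_le.1 hlt) ?_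
  rw [h1, dn, show β j - (β j - x) = x by omega]
  have h2 : ∀ k, β k ≠ x := fun k hk =>
    hx2 (mem_image.2 ⟨k, mem_Iio.2 (hβ.lt_iff_lt.1 (hk ▸ hx3)), hk⟩)
  intro a b hab
  by_cases ha : a = j
  · by_cases hb : b = j
    · rw [ha, hb]
    · rw [ha, Function.update_self, Function.update_of_ne hb] at hab
      exact absurd hab.symm (h2 b)
  · by_cases hb : b = j
    · rw [hb, Function.update_self, Function.update_of_ne ha] at hab
      exact absurd hab (h2 a)
    · rw [Function.update_of_ne ha, Function.update_of_ne hb] at hab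
      exact hβ.injective hab

theorem sum_pairs {d : ℕ} {β : Fin m → ℕ} (hβ : StrictMono β) (a : ℕ) :
    ∑ j, ∑ i ∈ Iio j, (if d ∣ β j - β i then a else 0) = a * npairs d β := by
  unfold npairs
  rw [Finset.card_filter, Fintype.sum_prod_type_right, Finset.mul_sum]
  refine Finset.sum_congr rfl fun j _ => ?_
  rw [Finset.mul_sum, ← Finset.sum_subset (Finset.subset_univ (Iio j))]
  · refine Finset.sum_congr rfl fun i hi => ?_
    have h1 : i < j := mem_Iio.1 hi
    have h2 : d ∣ β j - β i ↔ β i % d = β j % d := (Nat.modEq_iff_dvd' (hβ h1).le).symm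
    by_cases h : d ∣ β j - β i
    · rw [if_pos h, if_pos ⟨h1, h2.1 h⟩, mul_one]
    · rw [if_neg h, if_neg fun h' => h (h2.2 h'.2), mul_zero]
  · intro i _ hi
    rw [if_neg fun h' => hi (mem_Iio.2 h'.1), mul_zero]

theorem VD_fac {T : ℤ} {β : Fin m → ℕ} (hβ : StrictMono β) {i j : Fin m} (hi : i ∈ Iio j) :
    T ^ β j - T ^ β i = T ^ β i * (T ^ (β j - β i) - 1) := by
  rw [mul_sub, mul_one, ← pow_add, Nat.add_sub_cancel' (hβ (mem_Iio.1 hi)).le]

theorem ne_zero_of_two {T : ℤ} (hT : 2 ≤ |T|) : T ≠ 0 := by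
  rintro rfl
  rw [abs_zero] at hT
  omega

theorem VD_ne {T : ℤ} (hT : 2 ≤ |T|) {β : Fin m → ℕ} (hβ : StrictMono β) : VD T β ≠ 0 := by
  refine prod_ne_zero_iff.2 fun j _ => prod_ne_zero_iff.2 fun i hi => ?_
  rw [VD_fac hβ hi]
  exact mul_ne_zero (pow_ne_zero _ (ne_zero_of_two hT))
    (sub_ne_zero.2 (pow_ne_one hT (Nat.sub_pos_of_lt (hβ (mem_Iio.1 hi)))))

theorem PB_ne {T : ℤ} (hT : 2 ≤ |T|) (β : Fin m → ℕ) : PB T β ≠ 0 := prod_ne_zero_iff.2 fun _ _ => PH_ne hT _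

/-- **the valuation for tuples of small weight** -/
theorem val_tuple {r : ℕ} (hr : r.Prime) (ho : Odd r) {T : ℤ} (hT : 2 ≤ |T|) (hrT : ¬ (r : ℤ) ∣ T) {d : ℕ}
    (hd : orderOf (T : ZMod r) = d) (hd0 : 0 < d) {β : Fin m → ℕ} (hβ : StrictMono β) (hw : ewt d β < r) :
    vz r (PB T β) = vz r (VD T β) + vz r (T ^ d - 1) * ewt d β := by
  set a := vz r (T ^ d - 1) with ha
  set f : ℕ → ℕ := fun k => vz r (T ^ k - 1) with hf
  set g : ℕ → ℕ := fun k => if d ∣ k then a else 0 with hg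
  have h1 : vz r (PB T β) = ∑ j, ∑ x ∈ range (β j), f (x + 1) := by
    rw [PB, vz_prod _ _ _ fun _ _ => PH_ne hT _]
    refine Finset.sum_congr rfl fun j _ => ?_
    rw [PH, vz_prod _ _ _ fun i _ => sub_ne_zero.2 (pow_ne_one hT (Nat.succ_pos i))]
  have h2 : vz r (VD T β) = ∑ j, ∑ i ∈ Iio j, f (β j - β i) := by
    have h0 : ∀ j : Fin m, ∀ i ∈ Iio j, T ^ (β j - β i) - 1 ≠ 0 := fun j i hi =>
      sub_ne_zero.2 (pow_ne_one hT (Nat.sub_pos_of_lt (hβ (mem_Iio.1 hi))))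
    have h0' : ∀ j : Fin m, ∀ i ∈ Iio j, T ^ β j - T ^ β i ≠ 0 := fun j i hi => by
      rw [VD_fac hβ hi]
      exact mul_ne_zero (pow_ne_zero _ (ne_zero_of_two hT)) (h0 j i hi)
    rw [VD, vz_prod _ _ _ fun j _ => prod_ne_zero_iff.2 (h0' j)]
    refine Finset.sum_congr rfl fun j _ => ?_
    rw [vz_prod _ _ _ (h0' j)]
    refine Finset.sum_congr rfl fun i hi => ?_
    rw [VD_fac hβ hi, vz_mul (pow_ne_zero _ (ne_zero_of_two hT)) (h0 j i hi), vz_pow hr hrT, zero_add]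
  have h3 : ∀ j, ∀ x ∈ range (β j) \ (Iio j).image β, f (β j - x) = g (β j - x) := by
    intro j x hx
    have h4 := Cfsg.Agent.H421.HT.fac_factor hr ho hT (k := β j - x)
      (Nat.sub_pos_of_lt (mem_range.1 (mem_sdiff.1 hx).1))
    rw [hd] at h4
    refine h4.trans ?_
    by_cases h : d ∣ β j - x
    · have h5 := gap_le hd0 hβ hx h
      have h6 : 0 < (β j - x) / d :=
        Nat.div_pos (Nat.le_of_dvd (Nat.sub_pos_of_lt (mem_range.1 (mem_sdiff.1 hx).1)) h) hd0
      rw [if_pos h, Nat.factorization_eq_zero_of_not_dvd (Nat.not_dvd_of_pos_of_lt h6 (h5.trans_lt hw)), add_zero]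
      exact (if_pos h).symm
    · rw [if_neg h]
      exact (if_neg h).symm
  have h4 : ∀ j, ∑ x ∈ range (β j), g (x + 1) = a * (β j / d) := by
    intro j
    rw [← Nat.card_multiples, Finset.card_filter, Finset.mul_sum]
    refine Finset.sum_congr rfl fun x _ => ?_
    by_cases h : d ∣ x + 1
    · rw [if_pos h, mul_one]
      exact if_pos h
    · rw [if_neg h, mul_zero]
      exact if_neg h
  have h5 : ∑ j, ∑ i ∈ Iio j, g (β j - β i) = a * npairs d β := sum_pairs hβ a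
  have h6 : ∑ j, ∑ x ∈ range (β j), g (x + 1) = a * ewt d β + a * npairs d β := by
    rw [Finset.sum_congr rfl fun j _ => h4 j, ← Finset.mul_sum, ewt_add hd0 hβ, mul_add]
  rw [Finset.sum_congr rfl fun j _ => sum_split hβ g j, Finset.sum_add_distrib, h5] at h6
  rw [h1, h2, Finset.sum_congr rfl fun j _ => sum_split hβ f j, Finset.sum_add_distrib,
    Finset.sum_congr rfl fun j _ => Finset.sum_congr rfl (h3 j)]
  omega

/-- tuples of the same colour -/
theorem ewt_col {e : ℕ} (he : 0 < e) {β γ : Fin m → ℕ} (hβ : StrictMono β) (hγ : StrictMono γ) (hc : SameCol e β γ)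
    {B : ℕ} (h : bsz β + e * B = bsz γ) : ewt e β + B = ewt e γ := by
  have h1 := ewt_add he hβ
  have h2 := ewt_add he hγ
  have h3 := npairs_of_sameCol hc
  have h4 := sum_mod_of_sameCol hc
  have h5 : ∀ δ : Fin m → ℕ, e * ∑ j, δ j / e + ∑ j, δ j % e = ∑ j, δ j := fun δ => by
    rw [Finset.mul_sum, ← Finset.sum_add_distrib]
    exact Finset.sum_congr rfl fun j _ => Nat.div_add_mod _ _
  have h6 := h5 β
  have h7 := h5 γ
  have h8 := sum_le_of_injective hβ.injective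
  have h9 := sum_le_of_injective hγ.injective
  rw [h1, mul_add] at h6
  rw [h2, mul_add, ← h3] at h7
  apply Nat.eq_of_mul_eq_mul_left he
  rw [mul_add]
  unfold bsz at h
  omega

end Cfsg.Agent.LV.A
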