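import Cfsg.Agent.LV.A.Tow
import Cfsg.Agent.LV.A.Grp
import Cfsg.Agent.PQ.Red.Defs
import Cfsg.Agent.H577.HT.One
import Cfsg.Agent.H941.GU.Tow
import Cfsg.Agent.H120.GLB.Ctx
import Cfsg.Agent.H614.GU.Fld
import Cfsg.Agent.H633.Principal
import Cfsg.Agent.H684.CoverCount
import Cfsg.Agent.H700.PrinExt
import Cfsg.Agent.S0887

/-!
# LV-A (helper35): the rows of `PSL_n(q)` and `PSU_n(q)`

* `hz_GL`, `hz_GU`, `hz_PSL`, `hz_PSU` : the members of the principal `p`-block have degree prime to `r` if the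
  parameter has the same order `e` modulo `p` and `r`, `n < e p` and `n < e r`;
* `row_psl`, `row_psu` : the fields `psl`, `psu` of `LV.Cl p`, `p` odd;
* `fw_psl`, `fw_psu` : the fields `psl`, `psu` of `PQ.ClRows PQ.Fw`.
-/

set_option autoImplicit false
set_option linter.unusedSectionVars false

namespace Cfsg.Agent.LV.A

open Cfsg Subgroup
open scoped MatrixGroups

universe u v

section descent

variable {p r : ℕ} {M : Ideal AlgInt}

theorem hz_normal {G : Type u} [Group G] [Finite G] (hM : IsPModular p M) (h : HZ0 r M G)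
    (N : Subgroup G) [N.Normal] : HZ0 r M N := by
  classical
  have := Fact.mk hM.1
  have := Fintype.ofFinite G
  have := Fintype.ofFinite N
  intro θ hθ hd
  obtain ⟨χ, hχ, h1⟩ := H684.CoverCount.exists_over hM N θ hθ
  obtain ⟨h2, -⟩ := Cfsg.Agent.S0887.result N (χ : G → ℂ) χ.2 (θ : N → ℂ) θ.2 h1 _ _
    (Cfsg.Agent.Blocks.Basic.irr_one_eq_charDegree χ.2) (Cfsg.Agent.Blocks.Basic.irr_one_eq_charDegree θ.2)
  exact h χ hχ (hd.trans h2)

theorem hz_quot {G : Type u} [Group G] [Finite G] (hM : IsPModular p M) (h : HZ0 r M G)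
    (N : Subgroup G) [N.Normal] : HZ0 r M (G ⧸ N) := by
  have := hM.2.1.isPrime
  intro θ hθ hd
  refine h _ (H633.Principal.inflate_mem N hθ) ?_
  have h1 : charDegree (H633.Principal.infl N θ : G → ℂ) = charDegree (θ : G ⧸ N → ℂ) := by
    apply deg_eq_of
    rw [H633.Principal.infl_apply]
    rfl
  rw [h1]
  exact hd

theorem hz_equiv {G : Type u} {H : Type v} [Group G] [Finite G] [Group H] (e : G ≃* H) (h : HZ0 r M G) :
    HZ0 r M H := by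
  have : Finite H := Finite.of_equiv _ e.toEquiv
  intro θ hθ hd
  refine h _ (H700.PrinExt.mapIrr_mem e hθ) ?_
  have h1 : charDegree (H700.PrinExt.mapIrr e θ : G → ℂ) = charDegree (θ : H → ℂ) := by
    apply deg_eq_of
    change (θ : H → ℂ) (e 1) = _
    rw [map_one]
  rw [h1]
  exact hd

end descent

section groups

open Cfsg.Agent.H577.GLB.Std Cfsg.Agent.H623.GU Cfsg.Agent.H112.GLB Cfsg.Agent.H615.GU

variable {F : Type} [Field F] [Fintype F] {p r n q e : ℕ} {𝔐 : Ideal AlgInt}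

theorem cast_ne (h : ¬ p ∣ Fintype.card F) (hp : p.Prime) : (p : F) ≠ 0 := by
  intro h0
  obtain ⟨c, hc⟩ := CharP.exists F
  rw [CharP.cast_eq_zero_iff F c p] at h0
  exact ne_char h ((Nat.prime_dvd_prime_iff_eq (CharP.char_is_prime F c) hp).1 h0).symm

theorem unit_of {Q : ℤ} (hp : p.Prime) (h : ¬ (p : ℤ) ∣ Q) : IsUnit (Q : ZMod p) := by
  have := Fact.mk hp
  exact isUnit_iff_ne_zero.2 fun h0 => h ((ZMod.intCast_zmod_eq_zero_iff_dvd _ _).1 h0)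

theorem unit_card (hp : p.Prime) (h : ¬ p ∣ Fintype.card F) : IsUnit (((Fintype.card F : ℕ) : ℤ) : ZMod p) :=
  unit_of hp fun h1 => h (Int.natCast_dvd_natCast.1 h1)

theorem unit_neg (hF : Fintype.card F = q ^ 2) (hp : p.Prime) (h : ¬ p ∣ Fintype.card F) :
    IsUnit ((-(q : ℤ) : ℤ) : ZMod p) :=
  unit_of hp fun h1 => h (hF ▸ (Int.natCast_dvd_natCast.1 (Int.dvd_neg.1 h1)).trans (dvd_pow_self q two_ne_zero))

/-- **`GL_n(F)`** -/
theorem hz_GL (h𝔐 : IsPModular p 𝔐) (hpF : ¬ p ∣ Fintype.card F) (hr : r.Prime) (hr2 : r ≠ 2)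
    (hrF : ¬ r ∣ Fintype.card F) (hn : 0 < n) (hep : orderOf ((Fintype.card F : ℤ) : ZMod p) = e)
    (her : orderOf ((Fintype.card F : ℤ) : ZMod r) = e) (hp' : n < e * p) (hr' : n < e * r) :
    HZ0 r 𝔐 (GL (Fin n) F) := by
  have hp : p.Prime := h𝔐.1
  obtain ⟨K, _, _, θ, M, _, C⟩ := Cfsg.Agent.H120.GLB.Ctx.exists_ctx F n
  have ctx : CtxQ θ (Fintype.card F : ℤ) M n := by
    have := H614.GU.ctxQ_card C
    rwa [Nat.card_eq_fintype_card] at this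
  obtain ⟨t, ht⟩ := H941.GU.towG (p := p) ctx C hp (cast_ne hpF hp)
  exact tow_main h𝔐 ctx (unit_card hp hpF) t le_rfl hn
    (H577.HT.typ_one_G ctx (t.T n le_rfl) (fun A x => ht n le_rfl A x)) hr (hr.odd_of_ne_two hr2) (unit_card hr hrF)
    hep her hp' hr'

/-- **`GU_n(q)`** -/
theorem hz_GU (hF : Fintype.card F = q ^ 2) (h𝔐 : IsPModular p 𝔐) (hpF : ¬ p ∣ Fintype.card F) (hr : r.Prime)
    (hr2 : r ≠ 2) (hrF : ¬ r ∣ Fintype.card F) (hn : 0 < n) (hep : orderOf ((-(q : ℤ) : ℤ) : ZMod p) = e)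
    (her : orderOf ((-(q : ℤ) : ℤ) : ZMod r) = e) (hp' : n < e * p) (hr' : n < e * r) :
    HZ0 r 𝔐 (GU n F q) := by
  have hp : p.Prime := h𝔐.1
  obtain ⟨K, _, _, θ, M, _, C⟩ := Cfsg.Agent.H120.GLB.Ctx.exists_ctx F n
  have ctx : CtxQ θ (-(q : ℤ)) M n := H614.GU.ctxQ_of_ctx C (by rw [Nat.card_eq_fintype_card]; exact hF)
  obtain ⟨t, ht⟩ := H941.GU.towU (p := p) hF ctx C hp (cast_ne hpF hp)
  exact tow_main (G := fun n => GU n F q) h𝔐 ctx (unit_neg hF hp hpF) t le_rfl hn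
    (H577.HT.typ_one_U ctx (t.T n le_rfl) (ht n le_rfl)) hr (hr.odd_of_ne_two hr2) (unit_neg hF hr hrF)
    hep her hp' hr'

/-- **`PSL_n(F)`** -/
theorem hz_PSL (h𝔐 : IsPModular p 𝔐) (hpF : ¬ p ∣ Fintype.card F) (hr : r.Prime) (hr2 : r ≠ 2)
    (hrF : ¬ r ∣ Fintype.card F) (hn : 0 < n) (hep : orderOf ((Fintype.card F : ℤ) : ZMod p) = e)
    (her : orderOf ((Fintype.card F : ℤ) : ZMod r) = e) (hp' : n < e * p) (hr' : n < e * r) :
    HZ0 r 𝔐 (Matrix.ProjectiveSpecialLinearGroup (Fin n) F) :=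
  hz_quot h𝔐 (hz_equiv (kerSL F n) (hz_normal h𝔐 (hz_equiv Subgroup.topEquiv.symm
    (hz_GL h𝔐 hpF hr hr2 hrF hn hep her hp' hr')) _)) _

/-- **`PSU_n(q)`** -/
theorem hz_PSU (hF : Fintype.card F = q ^ 2) (h𝔐 : IsPModular p 𝔐) (hpF : ¬ p ∣ Fintype.card F) (hr : r.Prime)
    (hr2 : r ≠ 2) (hrF : ¬ r ∣ Fintype.card F) (hn : 0 < n) (hep : orderOf ((-(q : ℤ) : ℤ) : ZMod p) = e)
    (her : orderOf ((-(q : ℤ) : ℤ) : ZMod r) = e) (hp' : n < e * p) (hr' : n < e * r) :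
    HZ0 r 𝔐 (PSU n F q) :=
  hz_quot h𝔐 (hz_equiv (G := (LieClassical.GUOrder.detGU n F q).ker)
    { LieClassical.GUOrder.kerEquiv (F := F) (q := q) n with map_mul' := fun _ _ => Subtype.ext (Subtype.ext rfl) }
    (hz_normal h𝔐 (hz_GU hF h𝔐 hpF hr hr2 hrF hn hep her hp' hr') _)) _

end groups

/-- **the row of the linear groups** -/
theorem row_psl {p : ℕ} (hp2 : p ≠ 2) : Row p (PslX p) := by
  rintro M hM S _ _ - - ⟨F, _, _, n, hpF, hn, -, ⟨e⟩⟩ hA h3 -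
  have h1 := one_PSL hM.1 hp2 hpF hn (hA.of_inj e.symm.toMonoidHom e.symm.injective) (Nat.card_congr e.toEquiv ▸ h3)
  exact hz_equiv e.symm (hz_PSL hM hpF hM.1 hp2 hpF (by omega) rfl rfl h1 h1)

/-- **the row of the unitary groups** -/
theorem row_psu {p : ℕ} (hp2 : p ≠ 2) : Row p (PsuX p) := by
  rintro M hM S _ _ - - ⟨F, _, _, n, q, hpF, hF, hn, -, ⟨e⟩⟩ hA h3 -
  have h1 := one_PSU hF hM.1 hp2 hpF hn (hA.of_inj e.symm.toMonoidHom e.symm.injective)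
    (Nat.card_congr e.toEquiv ▸ h3)
  exact hz_equiv e.symm (hz_PSU hF hM hpF hM.1 hp2 hpF (by omega) rfl rfl h1 h1)

theorem not_dvd_card {F : Type} [Field F] [Fintype F] {r p : ℕ} [CharP F r] (hp : p.Prime) (h : p ≠ r) :
    ¬ p ∣ Fintype.card F := by
  obtain ⟨k, hr, hk⟩ := FiniteField.card F r
  intro hd
  rw [hk] at hd
  exact h ((Nat.prime_dvd_prime_iff_eq hp hr).1 (hp.dvd_of_dvd_pow hd))

/-- **commuting Sylow subgroups, linear groups** -/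
theorem fw_psl : PQ.All (fun S _ => IsPSL S) PQ.Fw := by
  rintro S _ _ - - ⟨F, _, _, n, hn, h4, ⟨e⟩⟩ p q M hM h
  obtain ⟨r, hr, hc⟩ := PQ.ex_char F
  have := Fact.mk hr
  obtain ⟨hpr, hqr⟩ := h.nc r hr (.inl ⟨F, _, _, hc, n, hn, h4, ⟨e⟩⟩)
  obtain ⟨P, Q, hPQ⟩ := h.com
  obtain ⟨h1, h2, h3⟩ := (num_SL (F := F) r n).quot h.pp h.p2 hpr h.pq h.q2 hqr h.ne (Nat.card_congr e.toEquiv ▸ h.dp)
    (Nat.card_congr e.toEquiv ▸ h.dq) ((cond_of_com h.pp h.pq P Q hPQ).congr e)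
  exact hz_equiv e.symm (hz_PSL hM (not_dvd_card h.pq hqr) h.pp h.p2 (not_dvd_card h.pp hpr) (by omega) rfl h1 h3
    (h1 ▸ h2))

/-- **commuting Sylow subgroups, unitary groups** -/
theorem fw_psu : PQ.All (fun S _ => IsPSU S) PQ.Fw := by
  rintro S _ _ - - ⟨F, _, _, n, q', hF, hn, h4, ⟨e⟩⟩ p q M hM h
  obtain ⟨r, hr, hc⟩ := PQ.ex_char F
  have := Fact.mk hr
  obtain ⟨hpr, hqr⟩ := h.nc r hr (.inr (.inr (.inl ⟨F, _, _, hc, n, q', hF, hn, h4, ⟨e⟩⟩)))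
  obtain ⟨P, Q, hPQ⟩ := h.com
  obtain ⟨h1, h2, h3⟩ := (num_SU hF r n).quot h.pp h.p2 hpr h.pq h.q2 hqr h.ne (Nat.card_congr e.toEquiv ▸ h.dp)
    (Nat.card_congr e.toEquiv ▸ h.dq) ((cond_of_com h.pp h.pq P Q hPQ).congr e)
  exact hz_equiv e.symm (hz_PSU hF hM (not_dvd_card h.pq hqr) h.pp h.p2 (not_dvd_card h.pp hpr) (by omega) rfl h1 h3
    (h1 ▸ h2))

end Cfsg.Agent.LV.A
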