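import Cfsg.Agent.H201.NatSys
import Cfsg.Agent.LV.Red.Ab

/-!
# LV-A (helper35): abelian and commuting Sylow subgroups in systems with block decompositions

* `lt_of_abS`, `ker_lt` : abelian Sylow `s`-subgroups force less than `s` blocks;
* `num_ker` : commuting Sylow subgroups force the same blocks (the numbers behind helper201's `crossRow_ker`);
* `Num`, `natSys_num` : the numbers for the kernel of the determinant.
-/

set_option autoImplicit false

namespace Cfsg.Agent.LV.A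

open Subgroup Cfsg.Agent.H630.NH Cfsg.Agent.H201.BlockSys Cfsg.Agent.H201.BlockSys.Sys
open Cfsg.Agent.H573 (PCent)

universe u v

section gen

variable {p : ℕ} {G : Type*} [Group G]

theorem comm_of_abS (h : AbS p G) {H : Subgroup G} (hH : IsPGroup p H) : ∀ a ∈ H, ∀ b ∈ H, a * b = b * a := by
  obtain ⟨P, hP⟩ := hH.exists_le_sylow
  exact fun a ha b hb => abS_iff.1 h P a (hP ha) b (hP hb)

theorem pcent_of_abS [Finite G] [Fact p.Prime] (h : AbS p G) : PCent p G := by
  rintro x ⟨k, hk⟩ hd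
  have h1 : IsPGroup p (zpowers x) := IsPGroup.of_card (n := k) (by rw [Nat.card_zpowers, hk])
  obtain ⟨P, hP⟩ := h1.exists_le_sylow
  have h2 : (P : Subgroup G) ≤ centralizer ({x} : Set G) := fun a ha =>
    mem_centralizer_singleton_iff.2 (abS_iff.1 h P a ha x (hP (mem_zpowers x)))
  exact P.not_dvd_index (hd.trans (index_dvd_of_le h2))

theorem abS_of_sub [Finite G] [Fact p.Prime] (N : Subgroup G) (hi : ¬ p ∣ N.index) (h : AbS p N) : AbS p G := by
  obtain ⟨P, hP⟩ := H573.exists_sylow_le_of_index N hi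
  refine abS_of_one P fun a ha b hb => ?_
  exact congrArg Subtype.val (comm_of_abS h (H := (P : Subgroup G).subgroupOf N) (P.2.comap_subtype)
    ⟨a, hP ha⟩ ha ⟨b, hP hb⟩ hb)

theorem abS_of_ker [Finite G] [hp : Fact p.Prime] {H : Type*} [Group H] (f : G →* H) (hk : ¬ p ∣ Nat.card f.ker)
    (h : AbS p H) : AbS p G := by
  refine abS_iff.2 fun P a ha b hb => ?_
  have h1 := comm_of_abS h (P.2.map f) (f a) ⟨a, ha, rfl⟩ (f b) ⟨b, hb, rfl⟩
  have h2 : a * b * (b * a)⁻¹ ∈ f.ker := by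
    rw [MonoidHom.mem_ker, map_mul, map_inv, map_mul, map_mul, h1, mul_inv_cancel]
  have h3 : a * b * (b * a)⁻¹ ∈ (P : Subgroup G) := mul_mem (mul_mem ha hb) (inv_mem (mul_mem hb ha))
  obtain ⟨k, hk1⟩ := P.2 ⟨_, h3⟩
  have h4 : orderOf (a * b * (b * a)⁻¹) ∣ p ^ k := orderOf_dvd_of_pow_eq_one (congrArg Subtype.val hk1)
  have h5 : orderOf (a * b * (b * a)⁻¹) ∣ Nat.card f.ker := Subgroup.orderOf_dvd_natCard _ h2
  have h6 := Nat.dvd_gcd h4 h5
  rw [Nat.Coprime.pow_left k ((hp.out.coprime_iff_not_dvd).2 hk), Nat.dvd_one, orderOf_eq_one_iff] at h6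
  exact mul_inv_eq_one.1 h6

/-- commuting Sylow subgroups and class sizes -/
theorem cond_of_com [Finite G] {q : ℕ} (hp : p.Prime) (hq : q.Prime) (P : Sylow p G) (Q : Sylow q G)
    (h : ∀ x ∈ (P : Subgroup G), ∀ y ∈ (Q : Subgroup G), x * y = y * x) : Cond {p, q} G := by
  have key : ∀ {p q : ℕ}, p.Prime → q.Prime → ∀ (P : Sylow p G) (Q : Sylow q G),
      (∀ x ∈ (P : Subgroup G), ∀ y ∈ (Q : Subgroup G), x * y = y * x) → ∀ x : G, (∃ k : ℕ, orderOf x = p ^ k) →
      ¬ q ∣ (centralizer ({x} : Set G)).index := by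
    rintro p q hp hq P Q h x ⟨k, hk⟩ hd
    have := Fact.mk hp
    have := Fact.mk hq
    have h1 : IsPGroup p (zpowers x) := IsPGroup.of_card (n := k) (by rw [Nat.card_zpowers, hk])
    obtain ⟨P', hP'⟩ := h1.exists_le_sylow
    obtain ⟨g, rfl⟩ := MulAction.exists_smul_eq G P P'
    obtain ⟨a, ha, hax⟩ := hP' (mem_zpowers x)
    have h2 : ((g • Q : Sylow q G) : Subgroup G) ≤ centralizer ({x} : Set G) := by
      rintro _ ⟨b, hb, rfl⟩
      rw [mem_centralizer_singleton_iff, ← hax]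
      change MulAut.conj g b * MulAut.conj g a = MulAut.conj g a * MulAut.conj g b
      rw [← map_mul, ← map_mul, h a ha b hb]
    exact (g • Q).not_dvd_index (hd.trans (index_dvd_of_le h2))
  rintro s (rfl | rfl) t (rfl | rfl) hst
  · exact (hst rfl).elim
  · exact key hp hq P Q h
  · exact key hq hp Q P fun y hy x hx => (h x hx y hy).symm
  · exact (hst rfl).elim

end gen

section sys

variable {r : ℕ} {S : Sys.{u, v} r}

theorem fac_le_of_abS {s : ℕ} (hs : Good r s) (c : S.I) (h : AbS s (S.G c)) :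
    (Nat.card (S.G c)).factorization s ≤ S.N (S.M s) c * S.v s := by
  have := Fact.mk hs.1
  induction hk : S.N (S.M s) c generalizing c with
  | zero =>
    rw [S.fac s hs.1 hs.2.1 hs.2.2 c, hk, fact_zero hs.1 hs.1.pos, add_zero]
  | succ k ih =>
    obtain ⟨c', hc', hN⟩ := S.split1 s hs.1 hs.2.1 hs.2.2 c (by omega)
    obtain ⟨x, hx, hx1⟩ := exists_elem (S := S) hs
    have h1 : (S.β hc' (x, 1)) ^ s = 1 := by
      rw [← map_pow, Prod.pow_mk, hx, one_pow]
      exact map_one _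
    have h2 := index_atom hs hs c c' hc' x hx hx1 (pcent_of_abS h _ (exists_order hs.1 h1))
    have h3 := fac_le (centralizer ({x} : Set (S.G (S.M s)))) s
    rw [S.fac s hs.1 hs.2.1 hs.2.2, S.N_M s hs.1 hs.2.1 hs.2.2, fact_zero hs.1 hs.1.one_lt] at h3
    have h4 := ih c' (h.of_inj ((S.β hc').comp (MonoidHom.inr _ _))
      ((S.β_inj hc').comp fun a b hab => congrArg Prod.snd hab)) (by omega)
    rw [Nat.succ_mul]
    omega

/-- abelian Sylow subgroups -/
theorem lt_of_abS {s : ℕ} (hs : Good r s) (c : S.I) (h : AbS s (S.G c)) : S.N (S.M s) c < s := by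
  have h1 := fac_le_of_abS hs c h
  rw [S.fac s hs.1 hs.2.1 hs.2.2] at h1
  by_contra h2
  have h3 := hs.1.factorization_pos_of_dvd (Nat.factorial_ne_zero _) (hs.1.dvd_factorial.2 (not_lt.1 h2))
  omega

/-- abelian Sylow subgroups of the kernel of the determinant -/
theorem ker_lt (F : Sys.Fam S) (one : S.I) (U : Subgroup F.D) [Finite U]
    (hU : ∀ (c : S.I) (x : S.G c), F.det c x ∈ U) (hsurj : ∀ u ∈ U, ∃ x : S.G one, F.det one x = u)
    (hM1 : ∀ s, Good r s → s ∣ Nat.card U → S.M s = one) (hN1 : ∀ c, S.N one c = S.dim c) {s : ℕ} (hs : Good r s)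
    (c : S.I) (h : AbS s (F.det c).ker) (hn : ¬ (s ∣ Nat.card U ∧ s ∣ S.dim c)) : S.N (S.M s) c < s := by
  have := Fact.mk hs.1
  by_cases hd : s ∣ Nat.card U
  · have hM := hM1 s hs hd
    by_contra hle
    obtain ⟨c', hc', hN⟩ := S.split1 s hs.1 hs.2.1 hs.2.2 c (by have := hs.1.pos; omega)
    have hsurj' : ∀ u ∈ U, ∃ x : S.G (S.M s), F.det (S.M s) x = u := by rw [hM]; exact hsurj
    let A : Subgroup (S.G (S.M s) × S.G c') := ((F.det c).comp (S.β hc')).ker
    have h1 : AbS s A := h.of_inj (((S.β hc').comp A.subtype).codRestrict (F.det c).ker fun a => a.2)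
      fun a b hab => Subtype.ext (S.β_inj hc' (congrArg Subtype.val hab))
    have h2 : AbS s (S.G c') := by
      refine h1.of_surj ((MonoidHom.snd _ _).comp A.subtype) fun g => ?_
      obtain ⟨a, ha⟩ := hsurj' (F.det c' g)⁻¹ (inv_mem (hU _ g))
      refine ⟨⟨(a, g), ?_⟩, rfl⟩
      change F.det c (S.β hc' (a, g)) = 1
      rw [F.det_β, ha, inv_mul_cancel]
    have h3 := lt_of_abS hs c' h2
    have h4 : S.N (S.M s) c = s := by omega
    rw [hM, hN1] at h4
    exact hn ⟨hd, h4 ▸ dvd_rfl⟩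
  · have h1 : (F.det c).ker.index ∣ Nat.card U := by
      rw [index_ker]
      refine card_dvd_of_le ?_
      rintro _ ⟨x, rfl⟩
      exact hU c x
    exact lt_of_abS hs c (abS_of_sub _ (fun h2 => hd (h2.trans h1)) h)

/-- commuting Sylow subgroups of the kernel of the determinant -/
theorem num_ker (F : Sys.Fam S) (one : S.I) (hinj : Function.Injective (F.det one)) (U : Subgroup F.D) [Finite U]
    (hU : ∀ (c : S.I) (x : S.G c), F.det c x ∈ U) (hsurj : ∀ u ∈ U, ∃ x : S.G one, F.det one x = u)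
    (hM1 : ∀ s, Good r s → s ∣ Nat.card U → S.M s = one)
    (hN1 : ∀ c, S.N one c = S.dim c) (hone : S.dim one = 1)
    (hdim : ∀ s t, Good r s → Good r t → S.dim (S.M s) = S.dim (S.M t) → S.M s = S.M t)
    (c : S.I) (π : Set ℕ) (hπ : ∀ p ∈ π, p.Prime ∧ p ≠ 2 ∧ p ≠ r ∧ p ∣ Nat.card (F.det c).ker) (hnt : π.Nontrivial)
    (hc : Cond π (F.det c).ker) : (∀ s ∈ π, ∀ t ∈ π, S.M s = S.M t) ∧ ∀ s ∈ π, S.N (S.M s) c < s := by
  have hg : ∀ s ∈ π, Good r s := fun s hs => ⟨(hπ s hs).1, (hπ s hs).2.1, (hπ s hs).2.2.1⟩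
  have hd : ∀ s ∈ π, s ∣ Nat.card (S.G c) := fun s hs => (hπ s hs).2.2.2.trans (card_subgroup_dvd_card _)
  have hcomm1 : ∀ x y : S.G one, x * y = y * x := fun x y => hinj (by rw [map_mul, map_mul, mul_comm])
  by_cases hall : ∀ s ∈ π, ¬ s ∣ Nat.card U
  · have h1 : (F.det c).ker.index ∣ Nat.card U := by
      rw [index_ker]
      refine card_dvd_of_le ?_
      rintro _ ⟨x, rfl⟩
      exact hU c x
    have h2 : Cond π (S.G c) := cond_of_normal (F.det c).ker
      (fun p hp => ⟨(hg p hp).1, fun h => hall p hp (h.trans h1)⟩) hc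
    have h3 : ∀ s ∈ π, ∀ t ∈ π, S.M s = S.M t := fun s hs t ht => hdim s t (hg s hs) (hg t ht)
      (dim_eq c hg (fun s hs => (dvd_iff (hg s hs)).1 (hd s hs)) h2 hs ht)
    refine ⟨h3, fun s hs => ?_⟩
    obtain ⟨t, ht, hts⟩ := hnt.exists_ne s
    exact lt_of_cond c hg h2 hs ht hts.symm (h3 s hs t ht)
  · push Not at hall
    obtain ⟨s0, hs0, hs0d⟩ := hall
    have hp0 : Fact s0.Prime := ⟨(hg s0 hs0).1⟩
    have hMs0 : S.M s0 = one := hM1 s0 (hg s0 hs0) hs0d
    -- all minimal blocks are one-dimensional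
    have hM : ∀ t ∈ π, S.M t = one := by
      intro t ht
      have hpt : Fact t.Prime := ⟨(hg t ht).1⟩
      by_contra hne
      have hdne : S.dim (S.M t) ≠ S.dim one := by
        intro h
        exact hne ((hdim t s0 (hg t ht) (hg s0 hs0) (by rw [h, hMs0])).trans hMs0)
      have hpos := dim_pos (S := S) (hg t ht)
      have hlt : S.dim one < S.dim (S.M t) := by omega
      have hne0 : s0 ≠ t := fun h => hne (h ▸ hMs0)
      have hdimc : S.dim (S.M t) ≤ S.dim c := by
        by_contra hlt2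
        obtain ⟨y, hy⟩ := exists_prime_orderOf_dvd_card' t (hd t ht)
        have h1 : y ^ t = 1 := by
          have := pow_orderOf_eq_one y
          rwa [hy] at this
        have h2 := eq_one_of_dim_lt (hg t ht) (not_le.1 hlt2) y h1
        rw [h2, orderOf_one] at hy
        exact (hg t ht).1.one_lt.ne hy
      obtain ⟨g1, g2, g3⟩ := hg s0 hs0
      obtain ⟨c', hc', hN'⟩ := S.split1 s0 g1 g2 g3 c (by rw [hMs0, hN1]; omega)
      obtain ⟨c'', hc'', hN''⟩ := S.split1 s0 g1 g2 g3 c' (by rw [hMs0] at hN' ⊢; rw [hN1 c] at hN'; omega)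
      obtain ⟨x, hx, hx1⟩ := exists_elem (S := S) (hg s0 hs0)
      -- the inverse
      have hs02 : 2 < s0 := lt_of_le_of_ne g1.two_le (Ne.symm g2)
      set k : (ZMod s0)ˣ := -1 with hk
      have hkH : k ∉ S.H s0 := by
        intro h
        have h1 : Nat.card (S.H s0) = 1 := by rw [S.H_card s0 g1 g2 g3, hMs0, hone]
        rw [(Subgroup.card_eq_one).1 h1, mem_bot] at h
        have h2 : ((-1 : (ZMod s0)ˣ) : ZMod s0) = ((1 : (ZMod s0)ˣ) : ZMod s0) := by rw [← hk, h]
        rw [Units.val_neg, Units.val_one] at h2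
        have h3 : Fact (2 < s0) := ⟨hs02⟩
        exact ZMod.neg_one_ne_one h2
      have hdisj := disjoint_pow (hg s0 hs0) hx hx1 k hkH
      set x2 := x ^ (k : ZMod s0).val with hx2
      have hx2x : x * x2 = 1 := by
        rw [hx2, ← pow_succ']
        have h1 : ((((k : ZMod s0).val + 1 : ℕ)) : ZMod s0) = 0 := by
          rw [Nat.cast_add, ZMod.natCast_zmod_val, hk, Units.val_neg, Units.val_one, Nat.cast_one, neg_add_cancel]
        obtain ⟨m, hm⟩ := (ZMod.natCast_eq_zero_iff _ _).1 h1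
        rw [hm, pow_mul, hx, one_pow]
      have hx2s : x2 ^ s0 = 1 := by rw [hx2, ← pow_mul, mul_comm, pow_mul, hx, one_pow]
      -- a Sylow subgroup containing `β (x2, 1)`
      have hzp : IsPGroup s0 (zpowers (S.β hc'' (x2, 1))) := by
        rintro ⟨y, hy⟩
        obtain ⟨i, rfl⟩ := mem_zpowers_iff.1 hy
        refine ⟨1, Subtype.ext ?_⟩
        show ((S.β hc'' (x2, 1)) ^ i) ^ s0 ^ 1 = 1
        rw [pow_one, ← zpow_natCast, ← zpow_mul, mul_comm, zpow_mul, zpow_natCast, ← map_pow, Prod.pow_mk, hx2s,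
          one_pow, show ((1 : S.G (S.M s0)), (1 : S.G c'')) = 1 from rfl, map_one, one_zpow]
      obtain ⟨P', hP'⟩ := hzp.exists_le_sylow
      set A : Subgroup (F.det c).ker :=
        (((⊤ : Subgroup (S.G (S.M s0))).prod (P' : Subgroup (S.G c'))).map (S.β hc')).subgroupOf (F.det c).ker with hA
      have hinj' : Function.Injective (F.det (S.M s0)) := by rw [hMs0]; exact hinj
      have hsurj' : ∀ u ∈ U, ∃ x : S.G (S.M s0), F.det (S.M s0) x = u := by rw [hMs0]; exact hsurj
      have hAp : IsPGroup s0 A := by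
        rintro ⟨⟨g, hgk⟩, ⟨⟨a, b⟩, hab, rfl : S.β hc' (a, b) = g⟩⟩
        obtain ⟨j, hj⟩ := P'.isPGroup' ⟨b, (mem_prod.1 hab).2⟩
        have hj' : b ^ s0 ^ j = 1 := congrArg Subtype.val hj
        have hdet : F.det _ a * F.det _ b = 1 := by
          rw [← F.det_β hc']
          exact hgk
        have ha : a ^ s0 ^ j = 1 := by
          apply hinj'
          rw [map_pow, map_one]
          have h1 : (F.det _ a * F.det _ b) ^ s0 ^ j = 1 := by rw [hdet, one_pow]
          rwa [mul_pow, ← map_pow (F.det c') b, hj', map_one, mul_one] at h1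
        refine ⟨j, Subtype.ext (Subtype.ext ?_)⟩
        show (S.β hc' (a, b)) ^ s0 ^ j = 1
        rw [← map_pow, Prod.pow_mk, ha, hj']
        exact map_one _
      refine not_cond_of_centralizer hs0 ht hne0 (hπ t ht).2.2.2 A hAp ?_ hc
      intro y hy hyA
      have hy1 : (y : S.G c) ^ t = 1 := by
        have := pow_orderOf_eq_one y
        rw [hy] at this
        exact congrArg Subtype.val this
      have hcom : ∀ a : S.G (S.M s0), ∀ b ∈ P', F.det _ a * F.det _ b = 1 →
          S.β hc' (a, b) * (y : S.G c) = (y : S.G c) * S.β hc' (a, b) := by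
        intro a b hb hab
        have h1 : S.β hc' (a, b) ∈ (F.det c).ker := by
          rw [MonoidHom.mem_ker, F.det_β]
          exact hab
        exact congrArg Subtype.val (hyA ⟨S.β hc' (a, b), h1⟩ ⟨(a, b), mem_prod.2 ⟨mem_top _, hb⟩, rfl⟩)
      have h2 : F.det _ x * F.det _ (S.β hc'' (x2, 1)) = 1 := by
        rw [F.det_β, map_one, mul_one, ← map_mul, hx2x, map_one]
      have h3 := hcom x _ (hP' (mem_zpowers _)) h2
      have hdj : Disjoint (S.E x) (S.E (S.β hc'' (x2, 1))) := by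
        rw [S.E_β, Set.disjoint_union_right]
        exact ⟨hdisj, disjoint_one (hg s0 hs0) hx hx1 c''⟩
      obtain ⟨u, w, huw⟩ := S.cp hc' x _ (y : S.G c) hdj h3.symm
      have h4 : u ^ t = 1 ∧ w ^ t = 1 := by
        rw [huw, ← map_pow, ← map_one (S.β hc')] at hy1
        have := S.β_inj hc' hy1
        exact ⟨congrArg Prod.fst this, congrArg Prod.snd this⟩
      have hu : u = 1 := eq_one_of_dim_lt (hg t ht) (by rw [hMs0]; exact hlt) u h4.1
      have hw : w = 1 := by
        refine Sys.alpha (hg s0 hs0) (hg t ht) (by rw [hMs0]; exact hlt) c' P' w h4.2 (fun b hb => ?_)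
        obtain ⟨a, ha⟩ := hsurj' (F.det _ b)⁻¹ (inv_mem (hU _ b))
        have h5 := hcom a b hb (by rw [ha, inv_mul_cancel])
        rw [huw, ← map_mul, ← map_mul] at h5
        exact congrArg Prod.snd (S.β_inj hc' h5)
      have h6 : y = 1 := by
        apply Subtype.ext
        rw [huw, hu, hw]
        exact map_one _
      rw [h6, orderOf_one] at hy
      exact (hg t ht).1.one_lt.ne hy
    -- multiplicities
    have hlt : ∀ s ∈ π, S.N one c < s := by
      have key : ∀ s ∈ π, ∀ t ∈ π, s < t → S.N one c < s := by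
        intro s hs t ht hst
        have hps : Fact s.Prime := ⟨(hg s hs).1⟩
        have hpt : Fact t.Prime := ⟨(hg t ht).1⟩
        by_contra hle
        set c1 : ℕ := max (S.N one c % s) 1 with hc1
        have h1c : 1 ≤ c1 := le_max_right _ _
        have hcs : c1 < s := max_lt (Nat.mod_lt _ (hg s hs).1.pos) (hg s hs).1.one_lt
        have hne : -(c1 : ZMod t) ≠ 0 := by
          rw [neg_ne_zero, Ne, ZMod.natCast_eq_zero_iff]
          intro h
          have := Nat.le_of_dvd (by omega) h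
          omega
        set k : (ZMod t)ˣ := Units.mk0 _ hne with hk
        have hkH : k ∉ S.H t := by
          intro h
          obtain ⟨g1, g2, g3⟩ := hg t ht
          have h1 : Nat.card (S.H t) = 1 := by rw [S.H_card t g1 g2 g3, hM t ht, hone]
          rw [(Subgroup.card_eq_one).1 h1, mem_bot] at h
          have h2 : -(c1 : ZMod t) = 1 := by
            have := congrArg (fun z : (ZMod t)ˣ => (z : ZMod t)) h
            exact this
          have h3 : (((c1 + 1 : ℕ)) : ZMod t) = 0 := by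
            rw [Nat.cast_add, Nat.cast_one, ← h2, add_neg_cancel]
          rw [ZMod.natCast_eq_zero_iff] at h3
          have := Nat.le_of_dvd (by omega) h3
          omega
        obtain ⟨x, hx, hx1⟩ := exists_elem (S := S) (hg t ht)
        obtain ⟨y, hy, hdv, hdet, hsur⟩ := Sys.beta F (hg s hs) (hg t ht) ((hM s hs).trans (hM t ht).symm) c
          (by rw [hM t ht]; exact not_lt.1 hle) k hkH c1 (by rw [hM t ht]; exact le_max_left _ _) hcs x hx hx1
        have hker : y ∈ (F.det c).ker := by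
          rw [MonoidHom.mem_ker, hdet, ← pow_add]
          have h3 : (((c1 + (k : ZMod t).val : ℕ)) : ZMod t) = 0 := by
            rw [Nat.cast_add, ZMod.natCast_zmod_val, hk, Units.val_mk0, add_neg_cancel]
          obtain ⟨m, hm⟩ := (ZMod.natCast_eq_zero_iff _ _).1 h3
          rw [hm, pow_mul, ← map_pow, hx, map_one, one_pow]
        have hsup : centralizer ({y} : Set (S.G c)) ⊔ (F.det c).ker = ⊤ := by
          rw [eq_top_iff]
          intro g _
          have hsurj' : ∀ u ∈ U, ∃ x : S.G (S.M t), F.det (S.M t) x = u := by rw [hM t ht]; exact hsurj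
          have hcomm' : ∀ x y : S.G (S.M t), x * y = y * x := by rw [hM t ht]; exact hcomm1
          obtain ⟨z, hz⟩ := hsurj' (F.det c g) (hU c g)
          obtain ⟨w, hw, hwz⟩ := hsur z (hcomm' z x)
          have h5 : g = w * (w⁻¹ * g) := by group
          rw [h5]
          refine mul_mem ((le_sup_left : _ ≤ centralizer ({y} : Set (S.G c)) ⊔ (F.det c).ker) hw)
            ((le_sup_right : _ ≤ centralizer ({y} : Set (S.G c)) ⊔ (F.det c).ker) ?_)
          rw [MonoidHom.mem_ker, map_mul, map_inv, hwz, hz, inv_mul_cancel]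
        have hy' : (⟨y, hker⟩ : (F.det c).ker) ^ t = 1 := Subtype.ext hy
        refine hc t ht s hs hst.ne' ⟨y, hker⟩ (exists_order (hg t ht).1 hy') ?_
        rw [index_centralizer_normal (F.det c).ker ⟨y, hker⟩ hsup]
        exact hdv
      obtain ⟨t1, ht1, t2, ht2, htt⟩ := hnt
      intro s hs
      obtain ⟨t, ht, hst⟩ : ∃ t ∈ π, s ≠ t := by
        by_cases h : s = t1
        · exact ⟨t2, ht2, h ▸ htt⟩
        · exact ⟨t1, ht1, h⟩
      rcases lt_or_gt_of_ne hst with h | h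
      · exact key s hs t ht h
      · have := key t ht s hs h
        omega
    exact ⟨fun s hs t ht => (hM s hs).trans (hM t ht).symm, fun s hs => by rw [hM s hs]; exact hlt s hs⟩

end sys

/-- the numbers for the special groups of degree `n` with parameter `Q` in characteristic `r` -/
structure Num (r : ℕ) (Q : ℤ) (n : ℕ) (X : Type*) [Group X] : Prop where
  one : ∀ s : ℕ, s.Prime → s ≠ 2 → s ≠ r → AbS s X → ¬ ((s : ℤ) ∣ Q - 1 ∧ s ∣ n) → n < orderOf (Q : ZMod s) * s
  two : ∀ s t : ℕ, s.Prime → s ≠ 2 → s ≠ r → t.Prime → t ≠ 2 → t ≠ r → s ≠ t → s ∣ Nat.card X → t ∣ Nat.card X →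
    Cond {s, t} X → orderOf (Q : ZMod s) = orderOf (Q : ZMod t) ∧ n < orderOf (Q : ZMod s) * s ∧
      n < orderOf (Q : ZMod t) * t

theorem Num.congr {r : ℕ} {Q : ℤ} {n : ℕ} {X Y : Type*} [Group X] [Group Y] (e : X ≃* Y) (h : Num r Q n X) :
    Num r Q n Y where
  one s h1 h2 h3 h4 := h.one s h1 h2 h3 (h4.of_inj e.toMonoidHom e.injective)
  two s t h1 h2 h3 h4 h5 h6 h7 h8 h9 h10 := h.two s t h1 h2 h3 h4 h5 h6 h7 (Nat.card_congr e.toEquiv ▸ h8)
    (Nat.card_congr e.toEquiv ▸ h9) (h10.congr e.symm)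

section nat

open Matrix Cfsg.Agent.H201.MatSys Cfsg.Agent.H201.MatSpec

variable {F : Type} [Field F]
variable (ι : ℕ → Type) [∀ n, Fintype (ι n)] [∀ n, DecidableEq (ι n)] (G : ∀ n, Subgroup (GL (ι n) F))

theorem natSys_num [Finite F] (r : ℕ) [Fact r.Prime] [CharP F r]
    (hι : ∀ n, Fintype.card (ι n) = 1 * n) (C : ℤ) (hC : ∀ i : ℕ, i ≠ 0 → C ^ i ≠ 1)
    (hCs : ∀ s : ℕ, s.Prime → s ≠ r → ¬ (s : ℤ) ∣ C) (hDec : ∀ a b : ℕ, (natFm ι G).Dec a b (a + b)) (Λ : Set ℤ)
    (hΛ : ∀ (n : ℕ) (x : G n), ∀ z ∈ sp (algebraMap F (AlgebraicClosure F)) ((x : GL (ι n) F) : Matrix (ι n) (ι n) F),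
      ∀ c ∈ Λ, z ^ c ∈ sp (algebraMap F (AlgebraicClosure F)) ((x : GL (ι n) F) : Matrix (ι n) (ι n) F))
    (hcard : ∀ s : ℕ, s.Prime → s ≠ 2 → s ≠ r → Nat.card (Hs Λ s) = 1 * orderOf (C : ZMod s))
    (ord : ∀ n : ℕ, ∃ k : ℕ, Nat.card (G n) = r ^ k * (∏ i ∈ Finset.range n, (C ^ (i + 1) - 1)).natAbs)
    (U : Subgroup Fˣ) (hU : ∀ n (x : G n), Matrix.GeneralLinearGroup.det (x : GL (ι n) F) ∈ U)
    (hsurj : ∀ u ∈ U, ∃ x : G 1, Matrix.GeneralLinearGroup.det (x : GL (ι 1) F) = u)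
    (hcU : ∀ s : ℕ, s ∣ Nat.card U → (s : ℤ) ∣ C - 1) (n : ℕ) :
    Num r C n (detHom ι G n).ker := by
  have hfin : Finite U := inferInstance
  have hinj : ∀ x y : G 1, Matrix.GeneralLinearGroup.det (x : GL (ι 1) F) =
      Matrix.GeneralLinearGroup.det (y : GL (ι 1) F) → x = y := by
    intro x y hxy
    have h2 : ((x : GL (ι 1) F) : Matrix (ι 1) (ι 1) F).det = ((y : GL (ι 1) F) : Matrix (ι 1) (ι 1) F).det :=
      congrArg (fun u : Fˣ => (u : F)) hxy
    have hc1 : Fintype.card (ι 1) = 1 := by rw [hι]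
    obtain ⟨i, hi⟩ := Fintype.card_eq_one_iff.1 hc1
    have hun : Unique (ι 1) := ⟨⟨i⟩, hi⟩
    rw [Matrix.det_unique, Matrix.det_unique] at h2
    apply Subtype.ext
    apply Units.ext
    ext a b
    have hdef : (default : ι 1) = i := hi _
    rw [hi a, hi b, ← hdef]
    exact h2
  have hM1 : ∀ s : ℕ, Good r s → s ∣ Nat.card U → orderOf (C : ZMod s) = 1 := by
    intro s hs hd
    have hp : Fact s.Prime := ⟨hs.1⟩
    have h4 : (C : ZMod s) = 1 := by
      have := (ZMod.intCast_zmod_eq_zero_iff_dvd _ _).2 (hcU s hd)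
      rw [Int.cast_sub, Int.cast_one, sub_eq_zero] at this
      exact this
    rw [h4, orderOf_one]
  have hN1 : ∀ c : ℕ, c / 1 = Fintype.card (ι c) := fun c => by rw [hι, Nat.div_one, one_mul]
  have hlt : ∀ s : ℕ, s.Prime → s ≠ r → n / orderOf (C : ZMod s) < s → n < orderOf (C : ZMod s) * s := by
    intro s hs hr h
    have := Fact.mk hs
    rw [mul_comm]
    exact (Nat.div_lt_iff_lt_mul (H749.orderOf_pos_of (hCs s hs hr))).1 h
  refine ⟨fun s h1 h2 h3 h4 h5 => hlt s h1 h3 ?_, fun s t h1 h2 h3 h4 h5 h6 h7 h8 h9 h10 => ?_⟩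
  · refine @ker_lt _ (natSys ι G r 1 hι C hC hCs hDec Λ hΛ hcard ord)
      (detFam ι G r 1 hι C hC hCs hDec Λ hΛ hcard ord) (1 : ℕ) U hfin hU hsurj hM1 hN1 s ⟨h1, h2, h3⟩ n h4 ?_
    rintro ⟨h6, h7⟩
    refine h5 ⟨hcU s h6, ?_⟩
    have h8 : s ∣ Fintype.card (ι n) := h7
    rwa [hι, one_mul] at h8
  · obtain ⟨h11, h12⟩ := @num_ker _ (natSys ι G r 1 hι C hC hCs hDec Λ hΛ hcard ord)
      (detFam ι G r 1 hι C hC hCs hDec Λ hΛ hcard ord) (1 : ℕ) hinj U hfin hU hsurj hM1 hN1 (hι 1)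
      (fun s t _ _ h => by
        have h1 : Fintype.card (ι (orderOf (C : ZMod s))) = Fintype.card (ι (orderOf (C : ZMod t))) := h
        rwa [hι, hι, one_mul, one_mul] at h1) n {s, t}
      (by
        rintro p (rfl | rfl)
        · exact ⟨h1, h2, h3, h8⟩
        · exact ⟨h4, h5, h6, h9⟩) (Set.nontrivial_pair h7) h10
    exact ⟨h11 s (.inl rfl) t (.inr rfl), hlt s h1 h3 (h12 s (.inl rfl)), hlt t h4 h6 (h12 t (.inr rfl))⟩

end nat

end Cfsg.Agent.LV.A
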